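import Cfsg.Agent.J4SylEleven.Abelian.Dual
import Cfsg.Agent.J4SylEleven.BlockDeg
import Cfsg.Agent.Char.ClassProducts
import Cfsg.Agent.Char.CyclicFamily
import Cfsg.Agent.Char.Induction

/-!
The exceptional characters of the abelian case and the contradiction.
-/

set_option autoImplicit false
set_option linter.style.haveILetI false
set_option linter.unusedSectionVars false

namespace CfsgLib.J4SylEleven

open Cfsg Subgroup CfsgLib.Char
open scoped ComplexConjugate

universe u

variable {G : Type u} [Group G] [Fintype G] {z x t : G} {P U : Subgroup G} [Fintype U]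

/-- The multiples of the second character by powers of the first. -/
noncomputable def twistHom (D : Duals z x U) (k : ℕ) : ↥U →* ℂˣ := D.gam ^ k * D.bet

/-- The differences that are induced. -/
noncomputable def diffFun (D : Duals z x U) (i : Fin 5) : ↥U → ℂ :=
  homFun (twistHom D 0) - homFun (twistHom D (i.1 + 1))

/-- The five induced class functions. -/
noncomputable def excFun (D : Duals z x U) (i : Fin 5) : G → ℂ := Cfsg.indFun U (diffFun D i)

namespace Abel

variable (A : Abel z P x U t) (D : Duals z x U)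

include A

theorem gam_pow (u : ↥U) : D.gam u ^ 11 = 1 := by
  rw [← map_pow, show u ^ 11 = 1 from Subtype.ext (A.base.exp u u.2), map_one]

theorem twist_split {u : ↥U} : ∃ c v : ↥U, (c : G) ∈ zpowers x ∧ (v : G) ∈ invPart z U ∧ u = c * v := by
  obtain ⟨c, hc, v, hv, hzv, e⟩ := A.base.split u u.2
  exact ⟨⟨c, (zpowers_le.2 A.base.mem) hc⟩, ⟨v, hv⟩, hc, ⟨hv, hzv⟩, Subtype.ext e⟩

theorem twist_apply_x (k : ℕ) {u : ↥U} (hu : (u : G) ∈ zpowers x) : twistHom D k u = D.gam u ^ k := by
  rw [twistHom, MonoidHom.mul_apply, MonoidHom.pow_apply, D.bet_x u hu, mul_one]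

theorem twist_apply_inv (k : ℕ) {u : ↥U} (hu : (u : G) ∈ invPart z U) : twistHom D k u = D.bet u := by
  rw [twistHom, MonoidHom.mul_apply, MonoidHom.pow_apply, D.gam_inv u hu, one_pow, one_mul]

theorem gam_pow_eq {a b : ℕ} (h : D.gam ⟨x, A.base.mem⟩ ^ a = D.gam ⟨x, A.base.mem⟩ ^ b) : a % 11 = b % 11 := by
  haveI : Fact (Nat.Prime 11) := ⟨by norm_num⟩
  have ho : orderOf (D.gam ⟨x, A.base.mem⟩) = 11 := orderOf_eq_prime (A.gam_pow D _)
    (D.gam_x ⟨x, A.base.mem⟩ (mem_zpowers x) fun e => A.base.x_ne_one (congrArg Subtype.val e))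
  have := pow_eq_pow_iff_modEq.1 h
  rwa [ho] at this

/-- Conjugation of `U` by an element normalising `⟨x⟩`. -/
def conjU {g : G} (hg : g ∈ normalizer ((zpowers x : Subgroup G) : Set G)) : ↥U →* ↥U :=
  MonoidHom.mk' (fun u => ⟨g * u * g⁻¹, A.base.conj_mem_U hg u.2⟩) fun a b => Subtype.ext (by simp [mul_assoc])

theorem twist_comp_eq {g : G} (hg : g ∈ normalizer ((zpowers x : Subgroup G) : Set G)) (a b : ℕ) :
    (twistHom D a).comp (A.conjU hg) = twistHom D b ↔
      D.bet.comp (A.conjU hg) = D.bet ∧ D.gam (A.conjU hg ⟨x, A.base.mem⟩) ^ a = D.gam ⟨x, A.base.mem⟩ ^ b := by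
  have hxc : ∀ u : ↥U, (u : G) ∈ zpowers x → ((A.conjU hg u : ↥U) : G) ∈ zpowers x := fun u hu =>
    (Subgroup.mem_normalizer_iff.1 hg u).1 hu
  have hIc : ∀ u : ↥U, (u : G) ∈ invPart z U → ((A.conjU hg u : ↥U) : G) ∈ invPart z U := by
    intro u hu
    by_cases h1 : (u : G) = 1
    · show g * (u : G) * g⁻¹ ∈ invPart z U
      rw [h1, mul_one, mul_inv_cancel]
      exact ⟨one_mem U, by group⟩
    · exact (A.base.conj_invPart A.comm hg ⟨hu, h1⟩).1
  constructor
  · intro h
    refine ⟨MonoidHom.ext fun u => ?_, ?_⟩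
    · obtain ⟨c, v, hc, hv, rfl⟩ := A.twist_split (u := u)
      rw [MonoidHom.comp_apply, map_mul, map_mul, map_mul, D.bet_x c hc, D.bet_x _ (hxc c hc), one_mul, one_mul]
      have := DFunLike.congr_fun h v
      rwa [MonoidHom.comp_apply, A.twist_apply_inv D _ hv, A.twist_apply_inv D _ (hIc v hv)] at this
    · have := DFunLike.congr_fun h ⟨x, A.base.mem⟩
      rwa [MonoidHom.comp_apply, A.twist_apply_x D _ (hxc ⟨x, A.base.mem⟩ (mem_zpowers x)),
        A.twist_apply_x D _ (u := ⟨x, A.base.mem⟩) (mem_zpowers x)] at this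
  · rintro ⟨hb, hx'⟩
    refine MonoidHom.ext fun u => ?_
    obtain ⟨c, v, hc, hv, rfl⟩ := A.twist_split (u := u)
    rw [MonoidHom.comp_apply, map_mul, map_mul, map_mul, A.twist_apply_x D _ hc,
      A.twist_apply_x D _ (hxc c hc), A.twist_apply_inv D _ hv, A.twist_apply_inv D _ (hIc v hv)]
    congr 1
    · obtain ⟨i, hi⟩ := mem_zpowers_iff.1 hc
      have e : c = (⟨x, A.base.mem⟩ : ↥U) ^ i := Subtype.ext (by rw [SubgroupClass.coe_zpow]; exact hi.symm)
      rw [e, map_zpow, map_zpow, map_zpow, ← zpow_natCast, zpow_comm, zpow_natCast, hx', ← zpow_natCast,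
        zpow_comm, zpow_natCast]
    · exact DFunLike.congr_fun hb v

open Classical in
/-- The four inner products. -/
theorem term_eq {g : G} (hg : g ∈ normalizer ((zpowers x : Subgroup G) : Set G)) (i j : Fin 5) :
    classInner (fun u => diffFun D i (A.conjU hg u)) (diffFun D j) =
      (if D.bet.comp (A.conjU hg) = D.bet then 1 else 0) *
        (1 + if g * x = x * g ∧ i = j then 1 else 0) := by
  have hfun : (fun u => diffFun D i (A.conjU hg u)) =
      homFun ((twistHom D 0).comp (A.conjU hg)) - homFun ((twistHom D (i.1 + 1)).comp (A.conjU hg)) := rfl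
  rw [hfun, diffFun, classInner_sub_left, classInner_sub_right, classInner_sub_right, classInner_homFun,
    classInner_homFun, classInner_homFun, classInner_homFun]
  simp only [A.twist_comp_eq D hg]
  by_cases hb : D.bet.comp (A.conjU hg) = D.bet
  swap
  · simp [hb]
  simp only [hb, true_and, if_true, one_mul, pow_zero]
  have hfix : ∀ u w : ↥U, (w : G) = g * u * g⁻¹ → D.bet w = D.bet u := fun u w hw => by
    rw [show w = A.conjU hg u from Subtype.ext hw]; exact DFunLike.congr_fun hb u
  set xu : ↥U := ⟨x, A.base.mem⟩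
  have hne : ∀ k : Fin 5, D.gam xu ^ (k.1 + 1) ≠ 1 := fun k e => by
    have := A.gam_pow_eq D (a := k.1 + 1) (b := 0) (by rw [pow_zero]; exact e)
    omega
  have hne' : ∀ k : Fin 5, ¬ (1 : ℂˣ) = D.gam xu ^ (k.1 + 1) := fun k e => hne k e.symm
  rcases (A.base.stab A.comm D hg hfix).2 with hgx | hgx
  · have hcx : A.conjU hg xu = xu := Subtype.ext hgx
    rw [hcx]
    have hcomm : g * x = x * g := mul_inv_eq_iff_eq_mul.1 hgx
    have hij : D.gam xu ^ (i.1 + 1) = D.gam xu ^ (j.1 + 1) ↔ i = j := by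
      refine ⟨fun e => Fin.ext ?_, fun e => e ▸ rfl⟩
      have := A.gam_pow_eq D e
      omega
    simp only [hne i, hne' j, hij, hcomm, true_and, if_false]
    ring
  · have hcx : A.conjU hg xu = xu⁻¹ := Subtype.ext hgx
    rw [hcx, map_inv]
    have hcomm : ¬ g * x = x * g := fun e => A.base.x_conj_ne hgx (by rw [e, mul_inv_cancel_right])
    have hne'' : ¬ (D.gam xu)⁻¹ ^ (i.1 + 1) = 1 := fun e => hne i (by rwa [inv_pow, inv_eq_one] at e)
    have hij : ¬ (D.gam xu)⁻¹ ^ (i.1 + 1) = D.gam xu ^ (j.1 + 1) := fun e => by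
      rw [inv_pow, inv_eq_iff_mul_eq_one, ← pow_add] at e
      have := A.gam_pow_eq D (a := i.1 + 1 + (j.1 + 1)) (b := 0) (by rw [pow_zero]; exact e)
      omega
    simp only [hne'', hne' j, hij, hcomm, false_and, if_false]
    ring

theorem cast_card_U : (Nat.card U : ℂ) = 1331 := by rw [A.base.cardU]; norm_num

theorem diff_one (i : Fin 5) : diffFun D i 1 = 0 := by simp [diffFun, homFun]

theorem diff_inv (i : Fin 5) {u : ↥U} (hu : (u : G) ∈ invPart z U) : diffFun D i u = 0 := by
  simp only [diffFun, Pi.sub_apply, homFun, A.twist_apply_inv D _ hu, sub_self]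

open Classical in
/-- An induced function on `U` is the average over the normaliser. -/
theorem exc_restrict (i : Fin 5) (u : ↥U) :
    excFun D i u = (1331 : ℂ)⁻¹ * ∑ g : G,
      if hg : g ∈ normalizer ((zpowers x : Subgroup G) : Set G) then diffFun D i (A.conjU hg u) else 0 := by
  rw [excFun, indFun_def, A.cast_card_U]
  congr 1
  refine Fintype.sum_equiv (Equiv.inv G) _ _ fun g => ?_
  rw [Equiv.inv_apply]
  split_ifs with hg
  · rw [show g⁻¹ * (u : G) * g = ((A.conjU hg u : ↥U) : G) by
      show _ = g⁻¹ * (u : G) * g⁻¹⁻¹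
      rw [inv_inv]]
    exact extendByZero_apply _ _
  · by_cases h1 : u = 1
    · subst h1
      rw [show g⁻¹ * ((1 : ↥U) : G) * g = ((1 : ↥U) : G) by simp]
      rw [extendByZero_apply]
      exact A.diff_one D i
    · refine extendByZero_of_not_mem _ fun hm => hg ?_
      exact A.ti u u.2 (fun e => h1 (Subtype.ext e)) g⁻¹ (by rwa [inv_inv])

open Classical in
theorem exists_stab : ∃ St : Subgroup G, Nat.card St = 2662 ∧
    (∀ g, g ∈ St ↔ ∃ hg : g ∈ normalizer ((zpowers x : Subgroup G) : Set G), D.bet.comp (A.conjU hg) = D.bet) ∧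
    ∀ g ∈ St, g * x = x * g ↔ g ∈ U := by
  set N := normalizer ((zpowers x : Subgroup G) : Set G) with hN
  have hmul : ∀ (a b : G) (ha : a ∈ N) (hb : b ∈ N), A.conjU (mul_mem ha hb) = (A.conjU ha).comp (A.conjU hb) :=
    fun a b ha hb => MonoidHom.ext fun u => Subtype.ext (by
      show a * b * (u : G) * (a * b)⁻¹ = a * (b * u * b⁻¹) * a⁻¹
      group)
  let St : Subgroup G :=
    { carrier := {g | ∃ hg : g ∈ N, D.bet.comp (A.conjU hg) = D.bet}
      one_mem' := ⟨one_mem N, MonoidHom.ext fun u => congrArg D.bet (Subtype.ext (by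
        show (1 : G) * u * 1⁻¹ = u
        simp))⟩
      mul_mem' := by
        rintro a b ⟨ha, ha'⟩ ⟨hb, hb'⟩
        exact ⟨mul_mem ha hb, by rw [hmul a b ha hb, ← MonoidHom.comp_assoc, ha', hb']⟩
      inv_mem' := by
        rintro a ⟨ha, ha'⟩
        refine ⟨inv_mem ha, MonoidHom.ext fun u => ?_⟩
        have := DFunLike.congr_fun ha' (A.conjU (inv_mem ha) u)
        rw [MonoidHom.comp_apply] at this ⊢
        rw [← this]
        exact congrArg D.bet (Subtype.ext (by
          show a * (a⁻¹ * (u : G) * a⁻¹⁻¹) * a⁻¹ = (u : G)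
          group)) }
  have hStfix : ∀ g ∈ St, ∀ u w : ↥U, (w : G) = g * u * g⁻¹ → D.bet w = D.bet u := by
    rintro g ⟨hg, hb⟩ u w hw
    rw [show w = A.conjU hg u from Subtype.ext hw]
    exact DFunLike.congr_fun hb u
  have hUSt : U ≤ St := fun u hu => ⟨A.base.U_le_norm hu, MonoidHom.ext fun w => congrArg D.bet (Subtype.ext (by
    show u * (w : G) * u⁻¹ = w
    rw [A.comm u hu w w.2, mul_inv_cancel_right]))⟩
  have hiff : ∀ g ∈ St, g * x = x * g ↔ g ∈ U := fun g hg =>
    ⟨(A.base.stab A.comm D hg.1 (hStfix g hg)).1, fun h => A.comm g h x A.base.mem⟩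
  refine ⟨St, ?_, fun g => Iff.rfl, hiff⟩
  obtain ⟨s, hso, hsx, hsb⟩ := D.refl
  have hsSt : s ∈ St := ⟨A.base.norm_of_conj (by rw [hsx]; exact inv_mem (mem_zpowers x)),
    MonoidHom.ext fun u => hsb u _ rfl⟩
  have hsU : s ∉ U := fun h => A.base.x_conj_ne hsx (by rw [A.comm s h x A.base.mem, mul_inv_cancel_right])
  have hidx : (U.subgroupOf St).index = 2 := by
    refine Subgroup.index_eq_two_iff.2 ⟨⟨s, hsSt⟩, fun b => ?_⟩
    by_cases hb : (b : G) ∈ U
    · exact Or.inr ⟨mem_subgroupOf.2 hb, fun h => hsU (by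
        have := mul_mem (inv_mem hb) (mem_subgroupOf.1 h)
        simpa using this)⟩
    · refine Or.inl ⟨mem_subgroupOf.2 ?_, fun h => hb (mem_subgroupOf.1 h)⟩
      have hbinv : (b : G) * x * (b : G)⁻¹ = x⁻¹ :=
        (A.base.stab A.comm D b.2.1 (hStfix b b.2)).2.resolve_left fun e =>
          hb ((hiff b b.2).1 (mul_inv_eq_iff_eq_mul.1 e))
      refine (hiff _ (mul_mem b.2 hsSt)).1 (mul_inv_eq_iff_eq_mul.1 ?_)
      rw [show (b : G) * s * x * ((b : G) * s)⁻¹ = b * (s * x * s⁻¹) * (b : G)⁻¹ by group, hsx, ← conj_inv, hbinv,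
        inv_inv]
  have h := (U.subgroupOf St).card_mul_index
  rw [hidx, Nat.card_congr (Subgroup.subgroupOfEquivOfLe hUSt).toEquiv, A.base.cardU] at h
  omega

open Classical in
theorem inner_eq (i j : Fin 5) : classInner (excFun D i) (excFun D j) = if i = j then 3 else 2 := by
  have hcl : IsClassFunction G (excFun D i) := isClassFunction_indFun U _
  show classInner (excFun D i) (Cfsg.indFun U (diffFun D j)) = _
  rw [classInner_indFun_right hcl]
  set φ : G → ↥U → ℂ := fun g u =>
    if hg : g ∈ normalizer ((zpowers x : Subgroup G) : Set G) then diffFun D i (A.conjU hg u) else 0 with hφ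
  have hrest : (fun u : ↥U => excFun D i u) = (1331 : ℂ)⁻¹ • ∑ g : G, φ g := by
    funext u
    rw [A.exc_restrict D i u, Pi.smul_apply, Finset.sum_apply, smul_eq_mul]
  rw [hrest, classInner_smul_left, classInner_sum_left]
  obtain ⟨St, hcard, hmem, hiff⟩ := A.exists_stab D
  have hterm : ∀ g : G, classInner (φ g) (diffFun D j) =
      (if g ∈ St then 1 else 0) + (if g ∈ U then (if i = j then 1 else 0) else 0) := by
    intro g
    by_cases hg : g ∈ normalizer ((zpowers x : Subgroup G) : Set G)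
    · rw [show φ g = fun u => diffFun D i (A.conjU hg u) from funext fun u => dif_pos hg, A.term_eq D hg i j]
      by_cases hb : D.bet.comp (A.conjU hg) = D.bet
      · have hgS : g ∈ St := (hmem g).2 ⟨hg, hb⟩
        rw [if_pos hb, if_pos hgS, one_mul]
        congr 1
        by_cases hgU : g ∈ U <;> simp [hgU, hiff g hgS]
      · have hgS : g ∉ St := fun h => hb ((hmem g).1 h).2
        have hgU : g ∉ U := fun h => by
          refine hb (MonoidHom.ext fun w => congrArg D.bet (Subtype.ext ?_))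
          show g * (w : G) * g⁻¹ = w
          rw [A.comm g h w w.2, mul_inv_cancel_right]
        simp [hb, hgS, hgU]
    · have hgS : g ∉ St := fun h => hg ((hmem g).1 h).1
      have hgU : g ∉ U := fun h => hg (A.base.U_le_norm h)
      rw [show φ g = 0 from funext fun u => dif_neg hg, classInner_zero_left, if_neg hgS, if_neg hgU, add_zero]
  rw [Finset.sum_congr rfl fun g _ => hterm g, Finset.sum_add_distrib, ← Finset.sum_filter, ← Finset.sum_filter,
    Finset.sum_const, Finset.sum_const, nsmul_eq_mul, nsmul_eq_mul, ← Fintype.card_subtype, ← Fintype.card_subtype,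
    ← Nat.card_eq_fintype_card, ← Nat.card_eq_fintype_card, hcard, A.base.cardU]
  split_ifs <;> norm_num

theorem exc_one (i : Fin 5) : excFun D i 1 = 0 := by
  rw [excFun, indFun_one, A.diff_one, mul_zero]

theorem exc_t (i : Fin 5) : excFun D i t = 0 := by
  refine indFun_eq_zero _ fun g hg => ?_
  have h1 : g⁻¹ * t * g ≠ 1 := fun e => by
    have ht : t = 1 := by
      have e' : g * (g⁻¹ * t * g) * g⁻¹ = 1 := by rw [e]; group
      rwa [show g * (g⁻¹ * t * g) * g⁻¹ = t by group] at e'
    have := A.invol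
    rw [ht, orderOf_one] at this
    norm_num at this
  have := A.base.orderOf_mem hg h1
  rw [show g⁻¹ * t * g = g⁻¹ * t * g⁻¹⁻¹ by group, J4Seven.orderOf_conj7, A.invol] at this
  norm_num at this

theorem exc_w (i : Fin 5) {w : G} (hw : w ∈ invPart' z U) : excFun D i w = 0 := by
  rw [show w = ((⟨w, hw.1.1⟩ : ↥U) : G) from rfl, A.exc_restrict D i]
  refine mul_eq_zero_of_right _ (Finset.sum_eq_zero fun g _ => ?_)
  split_ifs with hg
  · exact A.diff_inv D i (A.base.conj_invPart A.comm hg hw).1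
  · rfl

theorem isGen_diff (i : Fin 5) : IsGeneralizedCharacter ↥U (diffFun D i) :=
  IsGeneralized.sub (IsCharacter.isGeneralized (isCharacter_ofHom _))
    (IsCharacter.isGeneralized (isCharacter_ofHom _))

theorem exists_int (i : Fin 5) {χ : G → ℂ} (hχ : IsIrrCharacter G χ) :
    ∃ v : ℤ, classInner (excFun D i) χ = v :=
  IsGeneralized.exists_classInner_eq_int (IsGeneralized.indFun (A.isGen_diff D i))
    (IsIrrCharacter.isGeneralized hχ)

theorem inner_chi (i : Fin 5) {χ : G → ℂ} (hχ : IsClassFunction G χ) :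
    classInner (excFun D i) χ = classInner (diffFun D i) (fun u : ↥U => χ u) :=
  classInner_indFun _ hχ

open Classical in
theorem sum_twist (u : ↥U) :
    ∑ k ∈ Finset.range 11, homFun (twistHom D k) u =
      if (u : G) ∈ invPart z U then 11 * (D.bet u : ℂ) else 0 := by
  obtain ⟨c, v, hc, hv, rfl⟩ := A.twist_split (u := u)
  simp only [homFun, map_mul, A.twist_apply_x D _ hc, A.twist_apply_inv D _ hv, Units.val_mul, Units.val_pow_eq_pow_val]
  rw [← Finset.sum_mul]
  by_cases hc1 : c = 1
  · subst hc1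
    rw [if_pos (by simpa using hv), map_one, map_one, Units.val_one, one_mul]
    simp
  · rw [if_neg]
    · have hne : (D.gam c : ℂ) ≠ 1 := fun e => D.gam_x c hc hc1 (Units.ext e)
      rw [geom_sum_eq hne, ← Units.val_pow_eq_pow_val, A.gam_pow D c, Units.val_one, sub_self, zero_div, zero_mul]
    · intro hI
      refine hc1 (Subtype.ext ?_)
      exact (A.base.split_unique hc (one_mem _) hv hI (by rw [one_mul]; rfl)).1

open Classical in
theorem cong {w : G} (hw : w ∈ invPart' z U) {χ : G → ℂ} (hχ : IsIrrCharacter G χ) :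
    ∃ B m : ℤ, χ w = (B : ℂ) ∧ χ 1 - χ w + 242 * ∑ i, classInner (excFun D i) χ = ((1331 * m : ℤ) : ℂ) := by
  have hcl := IsIrrCharacter.isClassFunction hχ
  set M : ℕ → ℂ := fun k => classInner (homFun (twistHom D k)) (fun u : ↥U => χ u) with hM
  have hMint : ∀ k, ∃ n : ℤ, M k = n := fun k => IsGeneralized.exists_classInner_eq_int
    (IsCharacter.isGeneralized (isCharacter_ofHom _))
    (IsCharacter.isGeneralized (IsCharacter.restrict (IsIrrCharacter.isCharacter hχ) U))
  choose n hn using hMint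
  have hv : ∀ i, classInner (excFun D i) χ = M 0 - M (i.1 + 1) := fun i => by
    rw [A.inner_chi D i hcl, diffFun, classInner_sub_left]
  -- the symmetry
  obtain ⟨s, hso, hsx, hsb⟩ := D.refl
  have hss : s * s = 1 := by rw [← pow_two, ← hso, pow_orderOf_eq_one]
  have hsN : s ∈ normalizer ((zpowers x : Subgroup G) : Set G) :=
    A.base.norm_of_conj (by rw [hsx]; exact inv_mem (mem_zpowers x))
  have hsym : ∀ k, k ≤ 11 → M (11 - k) = M k := by
    intro k hk
    have hbet : D.bet.comp (A.conjU hsN) = D.bet := MonoidHom.ext fun u => hsb u _ rfl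
    have he : (twistHom D k).comp (A.conjU hsN) = twistHom D (11 - k) := by
      refine (A.twist_comp_eq D hsN k (11 - k)).2 ⟨hbet, ?_⟩
      rw [show A.conjU hsN ⟨x, A.base.mem⟩ = (⟨x, A.base.mem⟩ : ↥U)⁻¹ from Subtype.ext hsx, map_inv, inv_pow,
        inv_eq_iff_mul_eq_one, ← pow_add, Nat.add_sub_cancel' hk]
      exact A.gam_pow D _
    simp only [hM, classInner_def]
    rw [← he]
    congr 1
    have hinv : Function.Involutive (A.conjU hsN) := fun u =>
      Subtype.ext (A.base.conj_sq A.comm hss (u := (u : G)))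
    refine Fintype.sum_equiv (Function.Involutive.toPerm _ hinv) _ _ fun u => ?_
    rw [Function.Involutive.coe_toPerm]
    show (twistHom D k (A.conjU hsN u) : ℂ) * conj (χ u) =
      (twistHom D k (A.conjU hsN u) : ℂ) * conj (χ (s * u * s⁻¹))
    rw [hcl u s]
  -- the sum of all multiplicities
  have hconst : ∀ v ∈ invPart' z U, χ v = χ w := by
    intro v hv'
    obtain ⟨h, -, e⟩ := (A.base.stab_card_trans hw).2 v hv'
    rw [← e]; exact hcl w h
  have hreal : conj (χ w) = χ w := by
    rw [← IsIrrCharacter.apply_inv hχ w]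
    exact hconst _ ⟨⟨inv_mem hw.1.1, by rw [← conj_inv, hw.1.2]⟩, fun e => hw.2 (inv_eq_one.1 e)⟩
  have hd : conj (χ 1) = χ 1 := by rw [← IsIrrCharacter.apply_inv hχ, inv_one]
  have hall : ∑ k ∈ Finset.range 11, M k = (χ 1 - χ w) / 121 := by
    simp only [hM, classInner_def]
    rw [← Finset.mul_sum, Finset.sum_comm, A.cast_card_U]
    simp only [← Finset.sum_mul, A.sum_twist D, ite_mul, zero_mul]
    rw [← Finset.sum_filter]
    set S := Finset.univ.filter fun u : ↥U => (u : G) ∈ invPart z U with hS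
    have h1 : (1 : ↥U) ∈ S := by
      rw [hS, Finset.mem_filter]; exact ⟨Finset.mem_univ _, one_mem U, by simp⟩
    -- the sum of the second character over the inverted elements
    have hsum0 : ∑ u ∈ S, (D.bet u : ℂ) = 0 := by
      let I : Subgroup ↥U :=
        { carrier := {u | (u : G) ∈ invPart z U}
          one_mem' := ⟨one_mem U, by simp⟩
          mul_mem' := fun ha hb => A.base.invPart_mul A.comm ha hb
          inv_mem' := fun {u} hu => ⟨inv_mem hu.1, show z * (u : G)⁻¹ * z⁻¹ = _ by rw [← conj_inv, hu.2]; rfl⟩ }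
      let f : ↥I →* ℂ := (Units.coeHom ℂ).comp (D.bet.comp I.subtype)
      have hf : f ≠ 1 := fun e => by
        obtain ⟨v, hv, hne⟩ := D.bet_ne
        have h := DFunLike.congr_fun e (⟨v, hv.1⟩ : ↥I)
        exact hne (Units.ext h)
      have := sum_hom_units_eq_zero f hf
      rw [← this]
      refine Finset.sum_subtype S (fun u => ?_) _
      rw [hS]; simp; rfl
    rw [← Finset.sum_erase_add _ _ h1,
      Finset.sum_congr rfl (g := fun u : ↥U => 11 * χ w * (D.bet u : ℂ)) fun u hu => ?_, ← Finset.mul_sum,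
      Finset.sum_erase_eq_sub h1, hsum0, map_one, Units.val_one, OneMemClass.coe_one, hd]
    · ring
    · obtain ⟨hu1, hu2⟩ := Finset.mem_erase.1 hu
      rw [hS, Finset.mem_filter] at hu2
      rw [hconst u ⟨hu2.2, fun e => hu1 (Subtype.ext e)⟩, hreal]
      ring
  simp only [Finset.sum_range_succ, Finset.sum_range_zero, zero_add] at hall
  have s1 := hsym 1 (by norm_num)
  have s2 := hsym 2 (by norm_num)
  have s3 := hsym 3 (by norm_num)
  have s4 := hsym 4 (by norm_num)
  have s5 := hsym 5 (by norm_num)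
  norm_num at s1 s2 s3 s4 s5
  rw [s1, s2, s3, s4, s5] at hall
  obtain ⟨d, -, hd'⟩ := IsIrrCharacter.exists_degree hχ
  have hb : χ w = χ 1 - 121 * (M 0 + 2 * (M 1 + M 2 + M 3 + M 4 + M 5)) := by
    linear_combination (121 : ℂ) * hall
  refine ⟨(d : ℤ) - 121 * (n 0 + 2 * (n 1 + n 2 + n 3 + n 4 + n 5)), n 0, ?_, ?_⟩
  · rw [hb, hd', hn, hn, hn, hn, hn, hn]; push_cast; ring
  · rw [hb, Fin.sum_univ_five, hv, hv, hv, hv, hv]
    push_cast
    rw [← hn 0]
    simp only [Fin.val_zero, Fin.val_one, Fin.val_two, show ((3 : Fin 5) : ℕ) = 3 from rfl,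
      show ((4 : Fin 5) : ℕ) = 4 from rfl]
    norm_num
    ring

open Classical in
theorem weighted (i : Fin 5) : ∑ χ ∈ irrFinset G, classInner (excFun D i) χ * (χ t * χ t) / χ 1 =
    11 * (1816657920 : ℂ) ^ 2 / (order : ℂ) := by
  set a : G → ℂ := fun c => (Nat.card {p : G × G // IsConj t p.1 ∧ IsConj t p.2 ∧ p.1 * p.2 = c} : ℂ) with ha
  set K : ℂ := (Nat.card {y : G // IsConj t y} : ℂ) with hK
  have hKC : K * 1816657920 = (order : ℂ) := by
    have h := J4Eleven.card_mul_card_centralizer (⊤ : Subgroup G) t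
    rw [top_inf_eq, Subgroup.card_top, A.cardT, A.card] at h
    have e : {b : G | J4Eleven.MovedBy (⊤ : Subgroup G) t b}.ncard = Nat.card {y : G // IsConj t y} := by
      rw [← Nat.card_coe_set_eq]
      refine Nat.card_congr (Equiv.subtypeEquivRight fun b => ?_)
      rw [isConj_iff]
      exact ⟨fun ⟨c, _, hc⟩ => ⟨c, hc⟩, fun ⟨c, hc⟩ => ⟨c, mem_top c, hc⟩⟩
    rw [e] at h
    rw [hK]
    exact_mod_cast h
  have hcard : (Nat.card G : ℂ) = (order : ℂ) := by rw [A.card]
  have ho : (order : ℂ) ≠ 0 := by rw [← hcard]; simp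
  have hK0 : K ≠ 0 := fun e => ho (by rw [← hKC, e, zero_mul])
  have hS : ∀ c : G, ∑ χ ∈ irrFinset G, χ t * χ t * conj (χ c) / χ 1 = a c * (order : ℂ) / (K * K) := by
    intro c
    have h := Char.card_class_products t t c
    rw [← hK, hcard] at h
    simp only [ha]
    rw [h]
    field_simp
  -- reduce to a sum over `U`
  have hstep : ∀ χ ∈ irrFinset G, classInner (excFun D i) χ * (χ t * χ t) / χ 1 =
      (1331 : ℂ)⁻¹ * ∑ u : ↥U, diffFun D i u * (χ t * χ t * conj (χ u) / χ 1) := by
    intro χ hχ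
    rw [A.inner_chi D i (IsIrrCharacter.isClassFunction (mem_irrFinset.1 hχ)), classInner_def, A.cast_card_U,
      mul_assoc, mul_div_assoc, Finset.sum_mul, Finset.sum_div]
    congr 1
    exact Finset.sum_congr rfl fun u _ => by ring
  rw [Finset.sum_congr rfl hstep, ← Finset.mul_sum, Finset.sum_comm]
  simp only [← Finset.mul_sum, hS]
  set f := diffFun D i
  have hpairs : ∀ u : ↥U, f u * (a u * (order : ℂ) / (K * K)) =
      (121 * f u + 1331 * (if (u : G) ∈ zpowers x then f u else 0)) * ((order : ℂ) / (K * K)) := by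
    intro u
    by_cases h1 : u = 1
    · subst h1; simp [f, A.diff_one]
    have h1' : (u : G) ≠ 1 := fun e => h1 (Subtype.ext e)
    simp only [ha]
    split_ifs with hu
    · rw [A.pairsX u hu h1']; push_cast; ring
    · rw [A.pairsOther u u.2 hu]; push_cast; ring
  rw [Finset.sum_congr rfl fun u _ => hpairs u, ← Finset.sum_mul, Finset.sum_add_distrib, ← Finset.mul_sum,
    ← Finset.mul_sum, ← Finset.sum_filter]
  have hsumU : ∀ k, ∑ u : ↥U, homFun (twistHom D k) u = 0 := by
    intro k
    refine sum_hom_units_eq_zero ((Units.coeHom ℂ).comp (twistHom D k)) fun e => ?_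
    obtain ⟨v, hv, hne⟩ := D.bet_ne
    refine hne ?_
    rw [← A.twist_apply_inv D k hv.1]
    exact Units.ext (DFunLike.congr_fun e v)
  let X : Subgroup ↥U := (zpowers x).subgroupOf U
  have hXc : Nat.card X = 11 := by
    rw [Nat.card_congr (Subgroup.subgroupOfEquivOfLe (zpowers_le.2 A.base.mem)).toEquiv, Nat.card_zpowers, A.base.ord]
  have hXm : ∀ u : ↥U, u ∈ Finset.univ.filter (fun u : ↥U => (u : G) ∈ zpowers x) ↔ u ∈ X := fun u => by
    simp [X, mem_subgroupOf]
  have hfX : ∑ u ∈ Finset.univ.filter (fun u : ↥U => (u : G) ∈ zpowers x), f u = 11 := by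
    rw [Finset.sum_subtype _ hXm f]
    simp only [f, diffFun, Pi.sub_apply, Finset.sum_sub_distrib]
    have h0 : ∑ u : ↥X, homFun (twistHom D 0) (u : ↥U) = 11 := by
      rw [Finset.sum_congr rfl (g := fun _ => (1 : ℂ)) fun u _ => by
        simp [homFun, A.twist_apply_x D 0 (show ((u : ↥U) : G) ∈ zpowers x from mem_subgroupOf.1 u.2)],
        Finset.sum_const, Finset.card_univ, ← Nat.card_eq_fintype_card, hXc]
      norm_num
    have hi : ∑ u : ↥X, homFun (twistHom D (i.1 + 1)) (u : ↥U) = 0 := by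
      refine sum_hom_units_eq_zero ((Units.coeHom ℂ).comp ((twistHom D (i.1 + 1)).comp X.subtype)) fun e => ?_
      have h := DFunLike.congr_fun e ⟨⟨x, A.base.mem⟩, mem_subgroupOf.2 (mem_zpowers x)⟩
      have hu : twistHom D (i.1 + 1) ⟨x, A.base.mem⟩ = 1 := Units.ext h
      rw [A.twist_apply_x D _ (mem_zpowers x)] at hu
      have := A.gam_pow_eq D (a := i.1 + 1) (b := 0) (by rw [pow_zero]; exact hu)
      omega
    rw [h0, hi, sub_zero]
  have hfU : ∑ u : ↥U, f u = 0 := by
    simp only [f, diffFun, Pi.sub_apply, Finset.sum_sub_distrib, hsumU, sub_self]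
  rw [hfX, hfU, ← hKC]
  field_simp
  ring

end Abel

/-- The abelian case does not occur. -/
theorem Abel.false {G : Type u} [Group G] [Finite G] {z x t : G} {P U : Subgroup G} (A : Abel z P x U t) : False := by
  classical
  haveI : Fintype G := Fintype.ofFinite G
  haveI : Fintype U := Fintype.ofFinite U
  obtain ⟨D⟩ := A.base.exists_duals A.comm
  obtain ⟨w, hw⟩ : (invPart' z U).Nonempty :=
    Set.nonempty_of_ncard_ne_zero (by rw [A.base.ncard_invPart']; norm_num)
  refine char_false A.card (A.cent w hw) (by rw [← pow_two, ← A.invol, pow_orderOf_eq_one])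
    (excFun D) (fun i => isClassFunction_indFun U _) (fun i χ hχ => A.exists_int D i hχ) (A.inner_eq D)
    (A.exc_one D) (fun i => A.exc_w D i hw) (A.exc_t D) (fun χ hχ => A.cong D hw hχ) (A.weighted D) ?_ ?_
  · intro χ θ hχ hθ h i
    rw [A.inner_chi D i (IsIrrCharacter.isClassFunction hθ), A.inner_chi D i (IsIrrCharacter.isClassFunction hχ)]
    congr 1
    funext u
    refine h u ?_
    rw [show 1331 = 11 * 121 by norm_num, pow_mul, A.base.exp u u.2, one_pow]
  · intro q hq χ hχ d hd huniq
    obtain ⟨h23, h29, h31, h37, h43⟩ := A.large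
    have hfac : ∀ {q : ℕ} [Fact q.Prime], q ∣ order → ¬ q * q ∣ order → ∀ V : Sylow q G, Nat.card V = q := by
      intro q hq' h1 h2 V
      obtain ⟨n, hn⟩ := V.isPGroup'.exists_card_eq
      have hn1 : n ≤ 1 := by
        by_contra hlt
        refine h2 ((show q * q ∣ q ^ n by rw [← pow_two]; exact pow_dvd_pow q (by omega)).trans ?_)
        rw [← hn, ← A.card]
        exact Subgroup.card_subgroup_dvd_card _
      have hne : n ≠ 0 := by
        rintro rfl
        have hidx := (V : Subgroup G).card_mul_index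
        rw [pow_zero] at hn
        rw [hn, one_mul, A.card] at hidx
        exact V.not_dvd_index (hidx ▸ h1)
      rw [hn, show n = 1 by omega, pow_one]
    simp only [List.mem_cons, List.not_mem_nil, or_false] at hq
    rcases hq with rfl | rfl | rfl | rfl | rfl
    · haveI : Fact (Nat.Prime 23) := ⟨by norm_num⟩
      exact degree_mod (by norm_num) default (hfac (by norm_num [order]) (by norm_num [order]) _)
        (fun V => (h23 V).1) (e := 22) (h23 default).2 (Or.inl rfl) hχ hd huniq
    · haveI : Fact (Nat.Prime 29) := ⟨by norm_num⟩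
      exact degree_mod (by norm_num) default (hfac (by norm_num [order]) (by norm_num [order]) _)
        (fun V => (h29 V).1) (e := 28) (h29 default).2 (Or.inl rfl) hχ hd huniq
    · haveI : Fact (Nat.Prime 31) := ⟨by norm_num⟩
      exact degree_mod (by norm_num) default (hfac (by norm_num [order]) (by norm_num [order]) _)
        (fun V => (h31 V).1) (e := 10) (h31 default).2 (Or.inr (by norm_num)) hχ hd huniq
    · haveI : Fact (Nat.Prime 37) := ⟨by norm_num⟩
      exact degree_mod (by norm_num) default (hfac (by norm_num [order]) (by norm_num [order]) _)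
        (fun V => (h37 V).1) (e := 12) (h37 default).2 (Or.inr (by norm_num)) hχ hd huniq
    · haveI : Fact (Nat.Prime 43) := ⟨by norm_num⟩
      exact degree_mod (by norm_num) default (hfac (by norm_num [order]) (by norm_num [order]) _)
        (fun V => (h43 V).1) (e := 14) (h43 default).2 (Or.inr (by norm_num)) hχ hd huniq

end CfsgLib.J4SylEleven
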