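import Cfsg.Agent.J4SylEleven.NormU
import Cfsg.Agent.J4SylEleven.Chars

/-!
What an abelian Sylow 11-subgroup would give: the data used by the character argument.
-/

set_option autoImplicit false

namespace CfsgLib.J4SylEleven

open Cfsg Subgroup

/-- The data of the case of an abelian Sylow 11-subgroup. -/
structure Abel {G : Type*} [Group G] [Finite G] (z : G) (P : Subgroup G) (x : G) (U : Subgroup G) (t : G) : Prop where
  base : Base z P x U
  card : Nat.card G = order
  invol : orderOf t = 2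
  cardT : Nat.card ↥(centralizer ({t} : Set G)) = 1816657920
  comm : ∀ u ∈ U, ∀ v ∈ U, u * v = v * u
  /-- `U` is a trivial intersection subgroup with normaliser that of `⟨x⟩`. -/
  ti : ∀ u ∈ U, u ≠ 1 → ∀ g : G, g * u * g⁻¹ ∈ U → g ∈ normalizer ((zpowers x : Subgroup G) : Set G)
  cent : ∀ v ∈ invPart' z U, Nat.card ↥(centralizer ({v} : Set G)) = 2662
  /-- The factorisations by two conjugates of `t`. -/
  pairsX : ∀ u ∈ zpowers x, u ≠ 1 →
    Nat.card {p : G × G // IsConj t p.1 ∧ IsConj t p.2 ∧ p.1 * p.2 = u} = 1452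
  pairsOther : ∀ u ∈ U, u ∉ zpowers x →
    Nat.card {p : G × G // IsConj t p.1 ∧ IsConj t p.2 ∧ p.1 * p.2 = u} = 121
  large :
    (∀ V : Sylow 23 G, centralizer ((V : Subgroup G) : Set G) = (V : Subgroup G) ∧ Nat.card ↥(normalizer ((V : Subgroup G) : Set G)) = 23 * 22) ∧
    (∀ V : Sylow 29 G, centralizer ((V : Subgroup G) : Set G) = (V : Subgroup G) ∧ Nat.card ↥(normalizer ((V : Subgroup G) : Set G)) = 29 * 28) ∧
    (∀ V : Sylow 31 G, centralizer ((V : Subgroup G) : Set G) = (V : Subgroup G) ∧ Nat.card ↥(normalizer ((V : Subgroup G) : Set G)) = 31 * 10) ∧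
    (∀ V : Sylow 37 G, centralizer ((V : Subgroup G) : Set G) = (V : Subgroup G) ∧ Nat.card ↥(normalizer ((V : Subgroup G) : Set G)) = 37 * 12) ∧
    (∀ V : Sylow 43 G, centralizer ((V : Subgroup G) : Set G) = (V : Subgroup G) ∧ Nat.card ↥(normalizer ((V : Subgroup G) : Set G)) = 43 * 14)

end CfsgLib.J4SylEleven
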