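import Cfsg.Agent.J4SylEleven.Abelian.Local
import Cfsg.Agent.Char.Linear

/-!
An abelian Sylow 11-subgroup: two linear characters and the stabiliser of one of them.
-/

set_option autoImplicit false
set_option linter.style.haveILetI false
set_option linter.unusedSectionVars false

namespace CfsgLib.J4SylEleven

open Cfsg CfsgLib.J4Local Subgroup
open CfsgLib.J4Seven (mem_norm_zpowers)

universe u

variable {G : Type u} [Group G] [Finite G]

/-- The two linear characters of an abelian `U` and what they satisfy. -/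
structure Duals (z x : G) (U : Subgroup G) where
  /-- The character which is faithful on `⟨x⟩` and trivial on the inverted elements. -/
  gam : ↥U →* ℂˣ
  /-- The character trivial on `⟨x⟩`. -/
  bet : ↥U →* ℂˣ
  gam_inv : ∀ u : ↥U, (u : G) ∈ invPart z U → gam u = 1
  gam_x : ∀ u : ↥U, (u : G) ∈ zpowers x → u ≠ 1 → gam u ≠ 1
  bet_x : ∀ u : ↥U, (u : G) ∈ zpowers x → bet u = 1
  bet_ne : ∃ u : ↥U, (u : G) ∈ invPart' z U ∧ bet u ≠ 1
  refl : ∃ s : G, orderOf s = 2 ∧ s * x * s⁻¹ = x⁻¹ ∧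
    ∀ u w : ↥U, (w : G) = s * u * s⁻¹ → bet w = bet u

namespace Base

variable {z : G} {P : Subgroup G} {x : G} {U : Subgroup G} (B : Base z P x U)
  (hU : ∀ u ∈ U, ∀ v ∈ U, u * v = v * u)

include B hU

theorem exists_hom {g : ↥U} (hg : g ≠ 1) : ∃ l : ↥U →* ℂˣ, l g ≠ 1 := by
  refine CfsgLib.Char.exists_hom_ne_one fun h => hg ?_
  have hb : commutator ↥U = ⊥ := by
    rw [commutator_eq_closure, Subgroup.closure_eq_bot_iff]
    rintro _ ⟨a, b, rfl⟩
    exact commutatorElement_eq_one_iff_mul_comm.2 (Subtype.ext (hU a a.2 b b.2))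
  rwa [hb, mem_bot] at h

theorem exists_duals : Nonempty (Duals z x U) := by
  classical
  -- the two projections
  have hd : ∀ u : ↥U, ∃ c : ↥U, (c : G) ∈ zpowers x ∧ ∃ v : ↥U, (v : G) ∈ invPart z U ∧ u = c * v := by
    intro u
    obtain ⟨c, hc, v, hv, hzv, e⟩ := B.split u u.2
    exact ⟨⟨c, (zpowers_le.2 B.mem) hc⟩, hc, ⟨v, hv⟩, ⟨hv, hzv⟩, Subtype.ext e⟩
  choose pc hpc pv hpv hsplit using hd
  have huniq : ∀ (u c v : ↥U), (c : G) ∈ zpowers x → (v : G) ∈ invPart z U → u = c * v → pc u = c ∧ pv u = v := by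
    intro u c v hc hv e
    obtain ⟨h1, h2⟩ := B.split_unique (hpc u) hc (hpv u) hv
      (show (pc u : G) * pv u = c * v from congrArg Subtype.val ((hsplit u).symm.trans e))
    exact ⟨Subtype.ext h1, Subtype.ext h2⟩
  have hcomm : ∀ a b : ↥U, a * b = b * a := fun a b => Subtype.ext (hU a a.2 b b.2)
  have hmul : ∀ a b : ↥U, pc (a * b) = pc a * pc b ∧ pv (a * b) = pv a * pv b := by
    intro a b
    refine huniq _ _ _ (mul_mem (hpc a) (hpc b)) (B.invPart_mul hU (hpv a) (hpv b)) ?_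
    conv_lhs => rw [hsplit a, hsplit b]
    rw [mul_assoc, ← mul_assoc (pv a), hcomm (pv a) (pc b)]
    group
  let fc : ↥U →* ↥U := MonoidHom.mk' pc fun a b => (hmul a b).1
  let fv : ↥U →* ↥U := MonoidHom.mk' pv fun a b => (hmul a b).2
  have h1v : (1 : G) ∈ invPart z U := ⟨one_mem U, by group⟩
  have hpc_x : ∀ u : ↥U, (u : G) ∈ zpowers x → pc u = u ∧ pv u = 1 := fun u hu =>
    huniq u u 1 hu h1v (mul_one u).symm
  have hpv_I : ∀ u : ↥U, (u : G) ∈ invPart z U → pc u = 1 ∧ pv u = u := fun u hu =>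
    huniq u 1 u (one_mem _) hu (one_mul u).symm
  -- the reflection
  obtain ⟨v0, hv0⟩ : (invPart' z U).Nonempty := Set.nonempty_of_ncard_ne_zero (by rw [B.ncard_invPart']; norm_num)
  obtain ⟨s, hsH, hso, hsx, hsv⟩ := B.exists_refl hv0
  have hss : s * s = 1 := by rw [← pow_two, ← hso, pow_orderOf_eq_one]
  have hsN : s ∈ normalizer ((zpowers x : Subgroup G) : Set G) :=
    B.norm_of_conj (by rw [hsx]; exact inv_mem (mem_zpowers x))
  let σ : ↥U →* ↥U := MonoidHom.mk' (fun u => ⟨s * u * s⁻¹, B.conj_mem_U hsN u.2⟩)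
    fun a b => Subtype.ext (by simp [mul_assoc])
  have hσ2 : ∀ u, σ (σ u) = u := fun u => Subtype.ext (by
    show s * (s * u * s⁻¹) * s⁻¹ = u
    exact B.conj_sq hU hss)
  have hσv : ∀ u, pv (σ u) = σ (pv u) := by
    intro u
    refine (huniq _ (σ (pc u)) _ ((Subgroup.mem_normalizer_iff.1 hsN _).1 (hpc u)) ?_ ?_).2
    · by_cases h : (pv u : G) = 1
      · show s * (pv u : G) * s⁻¹ ∈ invPart z U
        rw [h, mul_one, mul_inv_cancel]; exact h1v
      · exact (B.conj_invPart hU hsN ⟨hpv u, h⟩).1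
    · rw [← map_mul, ← hsplit]
  -- the characters
  obtain ⟨l, hl⟩ := B.exists_hom hU (g := ⟨x, B.mem⟩) fun e => B.x_ne_one (congrArg Subtype.val e)
  obtain ⟨ψ, hψ⟩ := B.exists_hom hU (g := (⟨v0, hv0.1.1⟩ : ↥U) * ⟨v0, hv0.1.1⟩)
    fun e => hv0.2 (B.eq_one_of_sq hv0.1.1 (congrArg Subtype.val e))
  let bet : ↥U →* ℂˣ := MonoidHom.mk' (fun u => ψ (pv u) * ψ (σ (pv u))) fun a b => by
    rw [(hmul a b).2, map_mul, map_mul, map_mul, mul_mul_mul_comm]
  refine ⟨⟨l.comp fc, bet, fun u hu => ?_, fun u hu hu1 => ?_, fun u hu => ?_, ⟨⟨v0, hv0.1.1⟩, hv0, ?_⟩,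
    s, hso, hsx, fun u w hw => ?_⟩⟩
  · show l (pc u) = 1
    rw [(hpv_I u hu).1, map_one]
  · show l (pc u) ≠ 1
    rw [(hpc_x u hu).1]
    intro e
    obtain ⟨i, hi⟩ := mem_zpowers_iff.1
      ((B.zpowers_of_mem hu fun e' => hu1 (Subtype.ext e')).ge (mem_zpowers x))
    refine hl ?_
    rw [show (⟨x, B.mem⟩ : ↥U) = u ^ i from Subtype.ext (by rw [SubgroupClass.coe_zpow, hi]), map_zpow, e, one_zpow]
  · show ψ (pv u) * ψ (σ (pv u)) = 1
    rw [(hpc_x u hu).2, map_one, map_one, map_one, one_mul]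
  · show ψ (pv _) * ψ (σ (pv _)) ≠ 1
    rw [(hpv_I _ hv0.1).2, ← map_mul]
    have hσv0 : σ ⟨v0, hv0.1.1⟩ = ⟨v0, hv0.1.1⟩ := Subtype.ext (by
      show s * v0 * s⁻¹ = v0
      rw [hsv, mul_inv_cancel_right])
    rwa [hσv0]
  · show ψ (pv w) * ψ (σ (pv w)) = ψ (pv u) * ψ (σ (pv u))
    rw [show w = σ u from Subtype.ext hw, hσv, hσ2, mul_comm]

variable (D : Duals z x U)

theorem bet_pow {u : ↥U} : D.bet u ^ 11 = 1 := by
  rw [← map_pow, show u ^ 11 = 1 from Subtype.ext (B.exp u u.2), map_one]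

/-- An element fixing the second character, with a power coprime to 11 acting trivially, fixes a point. -/
theorem exists_fixed_point {e : G} (he : e ∈ cH z ⊓ normalizer ((zpowers x : Subgroup G) : Set G)) {n : ℕ}
    (hn : e ^ n = 1) (hn11 : ¬ 11 ∣ n) (hfix : ∀ u w : ↥U, (w : G) = e * u * e⁻¹ → D.bet w = D.bet u) :
    ∃ v ∈ invPart' z U, e * v = v * e := by
  classical
  obtain ⟨v, hv, hbv⟩ := D.bet_ne
  letI : CommGroup ↥U :=
    { (inferInstance : Group ↥U) with mul_comm := fun a b => Subtype.ext (hU a a.2 b b.2) }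
  let f : ℕ → ↥U := fun k => ⟨e ^ k * v * (e ^ k)⁻¹, B.conj_mem_U (pow_mem he.2 k) v.2⟩
  have hfI : ∀ k, (f k : G) ∈ invPart z U := fun k => (B.conj_mem_invPart (pow_mem he k) hv).1
  set p : ↥U := ∏ k ∈ Finset.range n, f k with hp
  have hbk : ∀ k, D.bet (f k) = D.bet v := by
    intro k
    induction k with
    | zero => exact congrArg D.bet (Subtype.ext (by simp [f]))
    | succ k ih =>
      rw [← ih]
      refine hfix (f k) (f (k + 1)) ?_
      show e ^ (k + 1) * (v : G) * (e ^ (k + 1))⁻¹ = e * (e ^ k * v * (e ^ k)⁻¹) * e⁻¹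
      rw [pow_succ']; group
  have hpI : (p : G) ∈ invPart z U := by
    rw [hp]
    refine Finset.prod_induction f (fun q => (q : G) ∈ invPart z U) (fun a b ha hb => B.invPart_mul hU ha hb)
      ⟨one_mem U, by simp⟩ fun k _ => hfI k
  have hp1 : (p : G) ≠ 1 := by
    intro e1
    have hb : D.bet p = D.bet v ^ n := by
      rw [hp, map_prod, Finset.prod_congr rfl fun k _ => hbk k, Finset.prod_const, Finset.card_range]
    rw [show p = 1 from Subtype.ext e1, map_one] at hb
    refine hbv (orderOf_eq_one_iff.1 (Nat.eq_one_of_dvd_coprimes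
      ((show Nat.Prime 11 by norm_num).coprime_iff_not_dvd.2 hn11) ?_ (orderOf_dvd_of_pow_eq_one hb.symm)))
    exact orderOf_dvd_of_pow_eq_one (B.bet_pow hU D)
  refine ⟨p, ⟨hpI, hp1⟩, mul_inv_eq_iff_eq_mul.1 ?_⟩
  let g : ↥U →* ↥U := MonoidHom.mk' (fun u => ⟨e * u * e⁻¹, B.conj_mem_U he.2 u.2⟩)
    fun a b => Subtype.ext (by simp [mul_assoc])
  have hg : g p = p := by
    have hgf : ∀ k, g (f k) = f (k + 1) := fun k => Subtype.ext (by
      show e * (e ^ k * (v : G) * (e ^ k)⁻¹) * e⁻¹ = e ^ (k + 1) * v * (e ^ (k + 1))⁻¹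
      rw [pow_succ']; group)
    rw [hp, map_prod, Finset.prod_congr rfl fun k _ => hgf k]
    have h1 := Finset.prod_range_succ' f n
    have h2 := Finset.prod_range_succ f n
    have h0 : f n = f 0 := Subtype.ext (by show e ^ n * (v : G) * (e ^ n)⁻¹ = _; simp [f, hn])
    rw [h2, h0] at h1
    exact (mul_right_cancel h1).symm
  exact congrArg Subtype.val hg

/-- The stabiliser of the second character in `N(⟨x⟩)`: it inverts or fixes `x`, and the elements fixing `x`
are those of `U`. -/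
theorem stab {g : G} (hg : g ∈ normalizer ((zpowers x : Subgroup G) : Set G))
    (hfix : ∀ u w : ↥U, (w : G) = g * u * g⁻¹ → D.bet w = D.bet u) :
    (g * x = x * g → g ∈ U) ∧ (g * x * g⁻¹ = x ∨ g * x * g⁻¹ = x⁻¹) := by
  obtain ⟨c, hc, h, hh, rfl⟩ := (normalizer_x B.inputs B.memC B.ord).2 g hg
  obtain ⟨u0, hu0, d, hd, rfl⟩ := B.cent_eq hc
  have hdN : d ∈ normalizer ((zpowers x : Subgroup G) : Set G) :=
    B.norm_of_conj (by rw [mem_centralizer_singleton_iff.1 hd.2, mul_inv_cancel_right]; exact mem_zpowers x)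
  set r := d * h with hr
  have hrH : r ∈ cH z ⊓ normalizer ((zpowers x : Subgroup G) : Set G) := mul_mem ⟨hd.1, hdN⟩ hh
  have hgr : u0 * d * h = u0 * r := by rw [hr, mul_assoc]
  rw [hgr] at hfix ⊢
  have hfr : ∀ (k : ℕ) (u w : ↥U), (w : G) = r ^ k * u * (r ^ k)⁻¹ → D.bet w = D.bet u := by
    intro k
    induction k with
    | zero => intro u w hw; rw [show w = u from Subtype.ext (by simpa using hw)]
    | succ k ih =>
      intro u w hw
      set w' : ↥U := ⟨r ^ k * u * (r ^ k)⁻¹, B.conj_mem_U (pow_mem hrH.2 k) u.2⟩ with hw'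
      rw [← ih u w' rfl]
      refine hfix w' w ?_
      have hm : r * (w' : G) * r⁻¹ ∈ U := B.conj_mem_U hrH.2 w'.2
      rw [show u0 * r * (w' : G) * (u0 * r)⁻¹ = u0 * (r * w' * r⁻¹) * u0⁻¹ by group, hU u0 hu0 _ hm,
        mul_inv_cancel_right, hw, hw', pow_succ']
      group
  set NH := cH z ⊓ normalizer ((zpowers x : Subgroup G) : Set G) with hNH
  have hr2640 : r ^ 2640 = 1 := by
    have := pow_card_eq_one' (G := NH) (x := ⟨r, hrH⟩)
    rw [(card_cent_norm B.type B.memC B.ord).2] at this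
    exact congrArg Subtype.val this
  set e := r ^ 11 with he
  obtain ⟨v, hv, hev⟩ := B.exists_fixed_point hU D (pow_mem hrH 11) (n := 240)
    (by rw [← pow_mul]; exact hr2640) (by norm_num) (hfr 11)
  refine ⟨fun hgx => ?_, ?_⟩
  · refine mul_mem hu0 ?_
    have hrx : r * x = x * r := by
      have h1 : u0 * x = x * u0 := hU u0 hu0 x B.mem
      refine mul_left_cancel (a := u0) ?_
      rw [← mul_assoc, hgx, ← mul_assoc, ← h1, mul_assoc]
    have hex : e * x = x * e := ((show Commute r x from hrx).pow_left 11).eq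
    have hezx : e ∈ zpowers x := (B.fix_cent hv).le
      ⟨⟨(pow_mem hrH 11).1, mem_centralizer_singleton_iff.2 hex⟩, mem_centralizer_singleton_iff.2 hev⟩
    have he1 : e = 1 := by
      by_contra hne
      have h11 := B.orderOf_mem ((zpowers_le.2 B.mem) hezx) hne
      have := orderOf_dvd_of_pow_eq_one (show e ^ 240 = 1 by rw [← pow_mul]; exact hr2640)
      rw [h11] at this
      norm_num at this
    refine B.maximal (zpowers r) (zpowers_le.2 (mem_centralizer_singleton_iff.2 hrx)) ?_ (mem_zpowers r)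
    obtain ⟨i, -, hi⟩ := (Nat.dvd_prime_pow (by norm_num : Nat.Prime 11)).1
      (show orderOf r ∣ 11 ^ 1 by rw [pow_one]; exact orderOf_dvd_of_pow_eq_one he1)
    exact IsPGroup.of_card (n := i) (by rw [Nat.card_zpowers, hi])
  · -- the action of `r` on `⟨x⟩` has order at most two
    haveI : IsCyclic ↥(zpowers x) := isCyclic_of_prime_card (p := 11) (hp := ⟨by norm_num⟩)
      (by rw [Nat.card_zpowers, B.ord])
    set φ := (zpowers x).normalizerMonoidHom
    set a := φ ⟨r, hrH.2⟩ with ha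
    have hS : (e * e) * x = x * (e * e) := by
      have hxS : zpowers x ≤ NH ⊓ centralizer ({v} : Set G) := by
        rw [← B.fix_cent hv]
        exact fun g hg => ⟨⟨hg.1.1, B.norm_of_conj
          (by rw [mem_centralizer_singleton_iff.1 hg.1.2, mul_inv_cancel_right]; exact mem_zpowers x)⟩, hg.2⟩
      set S := NH ⊓ centralizer ({v} : Set G)
      have hidx : ((zpowers x).subgroupOf S).index = 2 := by
        have h := ((zpowers x).subgroupOf S).card_mul_index
        rw [Nat.card_congr (Subgroup.subgroupOfEquivOfLe hxS).toEquiv, Nat.card_zpowers, B.ord,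
          (B.stab_card_trans hv).1] at h
        omega
      have := Subgroup.sq_mem_of_index_two hidx (⟨e, pow_mem hrH 11, mem_centralizer_singleton_iff.2 hev⟩ : S)
      rw [mem_subgroupOf, SubgroupClass.coe_pow, pow_two] at this
      exact (B.comm B.mem this).eq.symm
    have ha22 : a ^ 22 = 1 := by
      rw [ha, ← map_pow, ← MonoidHom.mem_ker, Subgroup.normalizerMonoidHom_ker, mem_subgroupOf,
        CfsgLib.J4Large.cent_zpowers, mem_centralizer_singleton_iff]
      rw [SubgroupClass.coe_pow]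
      show r ^ 22 * x = x * r ^ 22
      rw [show r ^ 22 = e * e by rw [he, ← pow_add]]
      exact hS
    have ha10 : a ^ 10 = 1 := by
      have h := pow_card_eq_one' (G := MulAut ↥(zpowers x)) (x := a)
      rwa [IsCyclic.card_mulAut, Nat.card_zpowers, B.ord, Nat.totient_prime (by norm_num)] at h
    have ha2 : a ^ 2 = 1 := by
      rw [← orderOf_dvd_iff_pow_eq_one]
      exact (Nat.dvd_gcd (orderOf_dvd_of_pow_eq_one ha22) (orderOf_dvd_of_pow_eq_one ha10)).trans (by norm_num)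
    rw [ha, ← map_pow, ← MonoidHom.mem_ker, Subgroup.normalizerMonoidHom_ker, mem_subgroupOf,
      CfsgLib.J4Large.cent_zpowers, mem_centralizer_singleton_iff, SubgroupClass.coe_pow] at ha2
    obtain ⟨i, hi⟩ := mem_zpowers_iff.1 ((mem_norm_zpowers.1 hrH.2).le (mem_zpowers _))
    have hm : r * x * r⁻¹ ∈ U := (zpowers_le.2 B.mem) (hi ▸ zpow_mem (mem_zpowers x) i)
    rw [show u0 * r * x * (u0 * r)⁻¹ = u0 * (r * x * r⁻¹) * u0⁻¹ by group, hU u0 hu0 _ hm, mul_inv_cancel_right,
      ← hi]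
    have h2 : x ^ (i * i) = x := by
      rw [zpow_mul, hi, conj_zpow, hi]
      calc r * (r * x * r⁻¹) * r⁻¹ = r ^ 2 * x * (r ^ 2)⁻¹ := by rw [pow_two]; group
        _ = x := by rw [show r ^ 2 * x = x * r ^ 2 from ha2, mul_inv_cancel_right]
    have h11 : x ^ (11 : ℤ) = 1 := by
      rw [show (11 : ℤ) = ((11 : ℕ) : ℤ) from rfl, zpow_natCast, ← B.ord, pow_orderOf_eq_one]
    have hdvd : (11 : ℤ) ∣ (i - 1) * (i + 1) := by
      have : x ^ (i * i - 1) = 1 := by rw [zpow_sub, h2, zpow_one, mul_inv_cancel]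
      have := orderOf_dvd_iff_zpow_eq_one.2 this
      rw [B.ord] at this
      rwa [show (i - 1) * (i + 1) = i * i - 1 by ring]
    rcases (Int.prime_iff_natAbs_prime.2 (by norm_num)).dvd_or_dvd hdvd with ⟨j, hj⟩ | ⟨j, hj⟩
    · left
      rw [show i = 1 + 11 * j by linarith, zpow_add, zpow_mul, h11, one_zpow, mul_one, zpow_one]
    · right
      rw [show i = -1 + 11 * j by linarith, zpow_add, zpow_mul, h11, one_zpow, mul_one, zpow_neg, zpow_one]

end Base

end CfsgLib.J4SylEleven
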