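import Cfsg.Agent.J4SylEleven.Abelian.Basic
import Cfsg.Agent.J4SylEleven.Second

/-!
An abelian Sylow 11-subgroup: its normaliser is that of `⟨x⟩`, and it is a trivial intersection subgroup.
-/

set_option autoImplicit false
set_option linter.style.haveILetI false
set_option linter.unusedSectionVars false

namespace CfsgLib.J4SylEleven

open Cfsg CfsgLib.J4Local Subgroup
open CfsgLib.J4Seven (mem_norm_zpowers orderOf_conj7)

variable {G : Type*} [Group G] [Finite G]

namespace Base

variable {z : G} {P : Subgroup G} {x : G} {U : Subgroup G} (B : Base z P x U)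
  (hU : ∀ u ∈ U, ∀ v ∈ U, u * v = v * u)

include B

theorem x_ne_one : x ≠ 1 := fun e => by have := B.ord; rw [e, orderOf_one] at this; norm_num at this

theorem zpowers_of_mem {y : G} (hy : y ∈ zpowers x) (h1 : y ≠ 1) : zpowers y = zpowers x :=
  eq_of_le_of_card_ge (zpowers_le.2 hy) (by
    rw [Nat.card_zpowers, Nat.card_zpowers, B.ord, B.orderOf_mem ((zpowers_le.2 B.mem) hy) h1])

theorem cent_of_mem {y : G} (hy : y ∈ zpowers x) (h1 : y ≠ 1) :
    centralizer ({y} : Set G) = centralizer ({x} : Set G) := by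
  rw [← CfsgLib.J4Large.cent_zpowers y, B.zpowers_of_mem hy h1, CfsgLib.J4Large.cent_zpowers]

theorem norm_le : normalizer ((zpowers x : Subgroup G) : Set G) ≤ normalizer (U : Set G) := by
  intro g hg
  rw [Subgroup.mem_normalizer_iff]
  intro u
  refine ⟨fun hu => B.conj_mem_U hg hu, fun h => ?_⟩
  have := B.conj_mem_U (inv_mem hg) h
  rwa [inv_inv, ← mul_assoc, ← mul_assoc, inv_mul_cancel, one_mul, inv_mul_cancel_right] at this

/-- `C(x) = U C_H(x)`. -/
theorem cent_eq {g : G} (hg : g ∈ centralizer ({x} : Set G)) :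
    ∃ u ∈ U, ∃ h ∈ cH z ⊓ centralizer ({x} : Set G), g = u * h := by
  set D := cH z ⊓ centralizer ({x} : Set G) with hD
  have hDn : D ≤ normalizer (U : Set G) := fun d hd => B.norm_le
    (B.norm_of_conj (by rw [mem_centralizer_singleton_iff.1 hd.2, mul_inv_cancel_right]; exact mem_zpowers x))
  have hinf : U ⊓ D = zpowers x := by
    refine le_antisymm (fun u hu => ?_) (zpowers_le.2 ⟨B.mem, B.memC.1, mem_centralizer_singleton_iff.2 rfl⟩)
    obtain ⟨c, hc, v, hv, hzv, rfl⟩ := B.split u hu.1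
    have hzc : z * c = c * z := mul_inv_eq_iff_eq_mul.1 (B.z_fix hc)
    have hzu : c * v * z = z * (c * v) := mem_cH.1 hu.2.1
    have hv1 : v = 1 := by
      refine B.eq_one_of_sq hv ?_
      have hzv' : z * v = v * z := by
        rw [← mul_assoc z c v, hzc, mul_assoc, mul_assoc] at hzu
        exact (mul_left_cancel hzu).symm
      rw [hzv', mul_inv_cancel_right] at hzv
      exact eq_inv_iff_mul_eq_one.1 hzv
    rw [hv1, mul_one]; exact hc
  set C := centralizer ({x} : Set G) with hC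
  have hCn : C ≤ normalizer (U : Set G) :=
    ((CfsgLib.J4Large.cent_zpowers x).ge.trans (centralizer_le_normalizer _)).trans B.norm_le
  haveI : (U.subgroupOf C).Normal := Subgroup.normal_subgroupOf_of_le_normalizer hCn
  have hDC : D ≤ C := inf_le_right
  set f : ↥D →* ↥C ⧸ U.subgroupOf C := (QuotientGroup.mk' (U.subgroupOf C)).comp (Subgroup.inclusion hDC) with hf
  have hidx : (U.subgroupOf C).index = 24 := by
    have h := (U.subgroupOf C).card_mul_index
    rw [Nat.card_congr (Subgroup.subgroupOfEquivOfLe B.le).toEquiv, B.cardU, B.cardCent] at h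
    omega
  have hker : f.ker = (U ⊓ D).subgroupOf D := by
    ext d
    rw [hf, MonoidHom.mem_ker, MonoidHom.comp_apply, QuotientGroup.mk'_apply, QuotientGroup.eq_one_iff]
    exact ⟨fun h => ⟨h, d.2⟩, fun h => h.1⟩
  have hrange : f.range = ⊤ := by
    refine Subgroup.eq_top_of_card_eq _ ?_
    have h := f.ker.card_mul_index
    have hk11 : Nat.card f.ker = 11 := by
      rw [hker, Nat.card_congr (Subgroup.subgroupOfEquivOfLe inf_le_right).toEquiv, hinf, Nat.card_zpowers, B.ord]
    rw [hk11, Subgroup.index_ker, (card_cent_norm B.type B.memC B.ord).1] at h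
    rw [show Nat.card (↥C ⧸ U.subgroupOf C) = (U.subgroupOf C).index from rfl, hidx]
    omega
  obtain ⟨d, hd⟩ := MonoidHom.range_eq_top.1 hrange (QuotientGroup.mk' _ ⟨g, hg⟩)
  refine ⟨g * (d : G)⁻¹, ?_, d, d.2, by group⟩
  have h1 : QuotientGroup.mk' (U.subgroupOf C) (⟨g, hg⟩ * (Subgroup.inclusion hDC d)⁻¹) = 1 := by
    rw [map_mul, map_inv, show QuotientGroup.mk' (U.subgroupOf C) (Subgroup.inclusion hDC d) = f d from rfl, hd,
      mul_inv_cancel]
  exact mem_subgroupOf.1 ((QuotientGroup.eq_one_iff _).1 h1)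

include hU

theorem invPart_mul {a b : G} (ha : a ∈ invPart z U) (hb : b ∈ invPart z U) : a * b ∈ invPart z U := by
  refine ⟨mul_mem ha.1 hb.1, ?_⟩
  rw [show z * (a * b) * z⁻¹ = (z * a * z⁻¹) * (z * b * z⁻¹) by group, ha.2, hb.2, ← mul_inv_rev,
    hU _ ha.1 _ hb.1]

/-- The normaliser of `⟨x⟩` preserves the inverted elements. -/
theorem conj_invPart {g : G} (hg : g ∈ normalizer ((zpowers x : Subgroup G) : Set G)) {v : G}
    (hv : v ∈ invPart' z U) : g * v * g⁻¹ ∈ invPart' z U := by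
  obtain ⟨c, hc, h, hh, rfl⟩ := (normalizer_x B.inputs B.memC B.ord).2 g hg
  obtain ⟨u, hu, d, hd, rfl⟩ := B.cent_eq hc
  have hd' : d ∈ cH z ⊓ normalizer ((zpowers x : Subgroup G) : Set G) :=
    ⟨hd.1, B.norm_of_conj (by rw [mem_centralizer_singleton_iff.1 hd.2, mul_inv_cancel_right]; exact mem_zpowers x)⟩
  have h1 := B.conj_mem_invPart hd' (B.conj_mem_invPart hh hv)
  rw [show u * d * h * v * (u * d * h)⁻¹ = u * (d * (h * v * h⁻¹) * d⁻¹) * u⁻¹ by group, hU u hu _ h1.1.1,
    mul_inv_cancel_right]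
  exact h1

/-- The normaliser of `U` is the normaliser of `⟨x⟩`. -/
theorem norm_eq : normalizer (U : Set G) = normalizer ((zpowers x : Subgroup G) : Set G) := by
  classical
  refine le_antisymm ?_ B.norm_le
  set NU := normalizer (U : Set G) with hNU
  set N := normalizer ((zpowers x : Subgroup G) : Set G) with hN
  set O := {b : G | CfsgLib.J4Eleven.MovedBy NU x b} with hO
  have hxC : centralizer ({x} : Set G) ≤ NU :=
    ((CfsgLib.J4Large.cent_zpowers x).ge.trans (centralizer_le_normalizer _)).trans B.norm_le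
  have horb := CfsgLib.J4Eleven.card_mul_card_centralizer NU x
  rw [inf_eq_right.2 hxC, B.cardCent, ← hO] at horb
  have hOU : O ⊆ (U : Set G) := by
    rintro _ ⟨n, hn, rfl⟩
    exact (Subgroup.mem_normalizer_iff.1 hn x).1 B.mem
  have hOstab : ∀ n ∈ NU, ∀ b ∈ O, n * b * n⁻¹ ∈ O := by
    rintro n hn _ ⟨m, hm, rfl⟩
    exact ⟨n * m, mul_mem hn hm, by group⟩
  -- the part in `⟨x⟩`
  set O1 := O ∩ ((zpowers x : Subgroup G) : Set G)
  have hO1 : O1.ncard = 10 := by
    have e : O1 = ((zpowers x : Subgroup G) : Set G) \ {1} := by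
      ext b
      constructor
      · rintro ⟨⟨n, -, rfl⟩, hb⟩
        exact ⟨hb, fun e => B.x_ne_one (conj_eq_one_iff.1 e)⟩
      · rintro ⟨hb, hb1⟩
        obtain ⟨h, hh, e⟩ := B.conj_powers hb hb1
        exact ⟨⟨h, B.norm_le hh.2, e⟩, hb⟩
    rw [e, Set.ncard_sdiff (by simp), Set.ncard_singleton, ← Nat.card_coe_set_eq, SetLike.coe_sort_coe,
      Nat.card_zpowers, B.ord]
  -- the rest is equally distributed over the inverted elements
  set O2 := O \ ((zpowers x : Subgroup G) : Set G) with hO2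
  have hOcard : O.ncard = 10 + O2.ncard := by rw [← hO1, Set.ncard_inter_add_ncard_sdiff_eq_ncard O]
  let F : G → Set G := fun v => {c | c ∈ zpowers x ∧ c * v ∈ O2}
  have hFeq : ∀ v ∈ invPart' z U, ∀ w ∈ invPart' z U, (F v).ncard ≤ (F w).ncard := by
    intro v hv w hw
    obtain ⟨h, hh, rfl⟩ := (B.stab_card_trans hv).2 w hw
    refine Set.ncard_le_ncard_of_injOn (fun c => h * c * h⁻¹) (fun c hc => ⟨?_, ?_, fun hmem => ?_⟩)
      (fun c _ d _ e => by simpa using e) (Set.toFinite _)
    · exact (Subgroup.mem_normalizer_iff.1 hh.2 c).1 hc.1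
    · rw [show h * c * h⁻¹ * (h * v * h⁻¹) = h * (c * v) * h⁻¹ by group]
      exact hOstab h (B.norm_le hh.2) _ hc.2.1
    · rw [show h * c * h⁻¹ * (h * v * h⁻¹) = h * (c * v) * h⁻¹ by group] at hmem
      exact hc.2.2 ((Subgroup.mem_normalizer_iff.1 hh.2 _).2 hmem)
  obtain ⟨v0, hv0⟩ : (invPart' z U).Nonempty := Set.nonempty_of_ncard_ne_zero (by rw [B.ncard_invPart']; norm_num)
  have hO2card : O2.ncard = 120 * (F v0).ncard := by
    have hfin : (invPart' z U).Finite := Set.toFinite _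
    let e : (Σ v : ↥(invPart' z U), ↥(F v.1)) ≃ ↥O2 := Equiv.ofBijective (fun q => ⟨q.2.1 * q.1.1, q.2.2.2⟩) ⟨?_, ?_⟩
    · haveI : Fintype ↥(invPart' z U) := hfin.fintype
      have h := Nat.card_congr e
      rw [Nat.card_sigma, Nat.card_coe_set_eq] at h
      rw [← h, Finset.sum_congr rfl (fun v _ => (Nat.card_coe_set_eq (F v.1)).trans
        (le_antisymm (hFeq _ v.2 _ hv0) (hFeq _ hv0 _ v.2))), Finset.sum_const, smul_eq_mul, Finset.card_univ,
        ← Nat.card_eq_fintype_card, Nat.card_coe_set_eq, B.ncard_invPart']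
    · rintro ⟨⟨v, hv⟩, ⟨c, hc⟩⟩ ⟨⟨v', hv'⟩, ⟨c', hc'⟩⟩ h
      obtain ⟨rfl, rfl⟩ := B.split_unique hc.1 hc'.1 hv.1 hv'.1 (congrArg Subtype.val h)
      rfl
    · rintro ⟨u, hu⟩
      obtain ⟨c, hc, v, hv, hzv, rfl⟩ := B.split u (hOU hu.1)
      refine ⟨⟨⟨v, ⟨hv, hzv⟩, fun e => hu.2 (by rw [e, mul_one]; exact hc)⟩, ⟨c, hc, hu⟩⟩, rfl⟩
  set r := (F v0).ncard
  have hr : r ≤ 11 := by
    refine (Set.ncard_le_ncard (t := ((zpowers x : Subgroup G) : Set G)) (fun c hc => hc.1) (Set.toFinite _)).trans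
      (le_of_eq ?_)
    rw [← Nat.card_coe_set_eq, SetLike.coe_sort_coe, Nat.card_zpowers, B.ord]
  rw [hOcard, hO2card] at horb
  have hdvd : (10 + 120 * r) * 31944 ∣ order := by
    rw [horb, ← order_eq B.inputs]; exact Subgroup.card_subgroup_dvd_card _
  have hcases : r = 0 ∨ r = 3 := by
    revert hdvd
    interval_cases r <;> norm_num [order]
  rcases hcases with h0 | h3
  · rw [h0] at horb
    exact (eq_of_le_of_card_ge B.norm_le (by
      rw [(normalizer_x B.inputs B.memC B.ord).1, ← hNU]; omega)).ge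
  · exfalso
    -- an element of order 37 would fix a nontrivial element of `U`
    haveI : Fact (Nat.Prime 37) := ⟨by norm_num⟩
    obtain ⟨g, hg⟩ := exists_prime_orderOf_dvd_card' (G := NU) 37 (by rw [← horb, h3]; norm_num)
    rw [← Subgroup.orderOf_coe] at hg
    have hmod := CfsgLib.J4Local.modEq_ncard_fixed (q := 37) (g := (g : G)) (by rw [← hg, pow_orderOf_eq_one])
      (U : Set G) (fun u hu => (Subgroup.mem_normalizer_iff.1 g.2 u).1 hu)
    rw [show (U : Set G).ncard = 1331 by rw [← Nat.card_coe_set_eq]; exact B.cardU] at hmod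
    obtain ⟨u, ⟨huU, hgu⟩, hu1⟩ : ∃ u ∈ {s | s ∈ (U : Set G) ∧ (g : G) * s = s * (g : G)}, u ≠ 1 := by
      by_contra hno
      push Not at hno
      have hle := Set.ncard_le_ncard (t := ({1} : Set G)) hno (Set.toFinite _)
      rw [Set.ncard_singleton] at hle
      unfold Nat.ModEq at hmod
      omega
    refine not_dvd_cent B.inputs (B.orderOf_mem huU hu1) (r := 37) (by simp) ?_
    rw [← hg]
    exact Subgroup.orderOf_dvd_natCard _ (mem_centralizer_singleton_iff.2 hgu)

/-- An element of `U` conjugate into `⟨x⟩` lies in it. -/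
theorem mem_of_conj {u : G} (hu : u ∈ U) {m : G} (hm : m * u * m⁻¹ ∈ zpowers x) : u ∈ zpowers x := by
  by_cases h1 : u = 1
  · rw [h1]; exact one_mem _
  have hy1 : m * u * m⁻¹ ≠ 1 := fun e => h1 (conj_eq_one_iff.1 e)
  have hle : U.map (MulAut.conj m).toMonoidHom ≤ U := by
    refine B.maximal _ ?_ ((IsPGroup.of_card (n := 3) (by rw [B.cardU]; norm_num) : IsPGroup 11 U).map _)
    rw [← B.cent_of_mem hm hy1, ← CfsgLib.J4Large.map_centralizer]
    exact Subgroup.map_mono fun v hv => mem_centralizer_singleton_iff.2 (hU v hv u hu)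
  have hmN : m ∈ normalizer (U : Set G) := Subgroup.mem_normalizer_iff_map_conj_eq.2
    (eq_of_le_of_card_ge hle (by rw [Subgroup.card_map_of_injective (MulAut.conj m).injective]))
  rw [B.norm_eq hU] at hmN
  exact (Subgroup.mem_normalizer_iff.1 hmN u).2 hm

variable [IsSimpleGroup G] (hG : ¬ IsMulCommutative G)

include hG

/-- The centraliser of an element of `U` outside `⟨x⟩`. -/
theorem cent_other {u : G} (hu : u ∈ U) (hux : u ∉ zpowers x) :
    U ≤ centralizer ({u} : Set G) ∧
      (Nat.card (centralizer ({u} : Set G)) = 1331 ∨ Nat.card (centralizer ({u} : Set G)) = 2662) := by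
  have hu1 : u ≠ 1 := fun e => hux (e ▸ one_mem _)
  have huo := B.orderOf_mem hu hu1
  set C := centralizer ({u} : Set G) with hC
  have hUC : U ≤ C := fun v hv => mem_centralizer_singleton_iff.2 (hU v hv u hu)
  refine ⟨hUC, ?_⟩
  obtain ⟨k, hk⟩ := B.cardU ▸ Subgroup.card_dvd_of_le hUC
  have hdvd := cent_dvd B.inputs huo
  rw [← hC, hk, mul_comm 24] at hdvd
  have hk24 : k ∣ 24 := Nat.dvd_of_mul_dvd_mul_left (by norm_num) hdvd
  have h3 : ¬ 3 ∣ k := fun h => by
    obtain ⟨m, hm⟩ := conj_of_three B.inputs B.memC.1 B.ord huo (by rw [← hC, hk]; exact dvd_mul_of_dvd_right h _)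
    exact hux (B.mem_of_conj hU hu hm)
  have h4 : ¬ 4 ∣ k := fun h => by
    haveI : Fact (Nat.Prime 2) := ⟨Nat.prime_two⟩
    obtain ⟨S, hS⟩ := Sylow.exists_subgroup_card_pow_prime (G := C) 2 (n := 2)
      (by rw [hk]; norm_num; exact dvd_mul_of_dvd_right h _)
    haveI : IsMulCommutative S :=
      IsPGroup.isMulCommutative_of_card_eq_prime_sq (p := 2) (by rw [hS])
    obtain ⟨j, hj⟩ := exists_prime_orderOf_dvd_card' (G := S) 2 (by rw [hS]; norm_num)
    rw [← Subgroup.orderOf_coe, ← Subgroup.orderOf_coe] at hj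
    have hju : u * ((j : C) : G) = ((j : C) : G) * u := (mem_centralizer_singleton_iff.1 (j : C).2).symm
    have hjz : ¬ IsConj z ((j : C) : G) := fun h => by
      obtain ⟨m, hm⟩ := conj_of_invol B.type B.memC.1 B.ord huo h hju
      exact hux (B.mem_of_conj hU hu hm)
    have h22 := card_cent_second_eleven hG ⟨P, B.type⟩ hj hjz
      (mem_centralizer_singleton_iff.2 hju) huo
    have hle : S.map C.subtype ≤ centralizer ({((j : C) : G)} : Set G) ⊓ C := by
      rintro _ ⟨a, ha, rfl⟩
      refine ⟨mem_centralizer_singleton_iff.2 ?_, a.2⟩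
      exact congrArg (fun q : S => ((q : C) : G)) (IsMulCommutative.is_comm.comm (⟨a, ha⟩ : S) j)
    have h := Subgroup.card_dvd_of_le hle
    rw [h22, Subgroup.card_map_of_injective C.subtype_injective, hS] at h
    norm_num at h
  have hk2 : k = 1 ∨ k = 2 := by
    have := Nat.le_of_dvd (by norm_num) hk24
    interval_cases k <;> omega
  rcases hk2 with rfl | rfl
  · exact Or.inl (by rw [hk])
  · exact Or.inr (by rw [hk])

/-- `U` is a trivial intersection subgroup. -/
theorem ti_of_abelian {u : G} (hu : u ∈ U) (hu1 : u ≠ 1) {g : G} (hg : g * u * g⁻¹ ∈ U) :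
    g ∈ normalizer ((zpowers x : Subgroup G) : Set G) := by
  by_cases hux : u ∈ zpowers x
  · have hx' : g * u * g⁻¹ ∈ zpowers x :=
      B.mem_of_conj hU hg (m := g⁻¹) (by rw [inv_inv, show g⁻¹ * (g * u * g⁻¹) * g = u by group]; exact hux)
    refine B.norm_of_conj ?_
    obtain ⟨i, hi⟩ := mem_zpowers_iff.1 ((B.zpowers_of_mem hux hu1).ge (mem_zpowers x))
    have e : g * x * g⁻¹ = (g * u * g⁻¹) ^ i := by rw [conj_zpow, hi]
    rw [e]
    exact zpow_mem hx' i
  · set w := g * u * g⁻¹ with hw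
    have hwx : w ∉ zpowers x := fun h => hux (B.mem_of_conj hU hu (m := g) h)
    obtain ⟨hUw, hcw⟩ := B.cent_other hU hG hg hwx
    obtain ⟨hUu, -⟩ := B.cent_other hU hG hu hux
    have hidx : (U.subgroupOf (centralizer ({w} : Set G))).index ∣ 2 := by
      have h := (U.subgroupOf (centralizer ({w} : Set G))).card_mul_index
      rw [Nat.card_congr (Subgroup.subgroupOfEquivOfLe hUw).toEquiv, B.cardU] at h
      rcases hcw with e | e <;> rw [e] at h
      · exact ⟨2, by omega⟩
      · exact ⟨1, by omega⟩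
    haveI hn : (U.subgroupOf (centralizer ({w} : Set G))).Normal := by
      rcases (Nat.dvd_prime Nat.prime_two).1 hidx with e | e
      · rw [Subgroup.index_eq_one.1 e]; infer_instance
      · exact Subgroup.normal_of_index_eq_two e
    have hle : U.map (MulAut.conj g).toMonoidHom ≤ U := by
      rintro _ ⟨v, hv, rfl⟩
      have hvC : g * v * g⁻¹ ∈ centralizer ({w} : Set G) := by
        rw [hw, ← CfsgLib.J4Large.map_centralizer]
        exact ⟨v, hUu hv, rfl⟩
      show g * v * g⁻¹ ∈ U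
      obtain ⟨k, hk⟩ := hidx
      have h2 : (g * v * g⁻¹) ^ 2 ∈ U := by
        have := (U.subgroupOf (centralizer ({w} : Set G))).pow_index_mem ⟨_, hvC⟩
        have := pow_mem (mem_subgroupOf.1 this) k
        simpa [← pow_mul, ← hk] using this
      have h11 : (g * v * g⁻¹) ^ 11 = 1 := by rw [conj_pow, B.exp v hv, mul_one, mul_inv_cancel]
      have h12 := pow_mem h2 6
      rwa [← pow_mul, show 2 * 6 = 11 + 1 by norm_num, pow_succ, h11, one_mul] at h12
    rw [← B.norm_eq hU]
    exact Subgroup.mem_normalizer_iff_map_conj_eq.2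
      (eq_of_le_of_card_ge hle (by rw [Subgroup.card_map_of_injective (MulAut.conj g).injective]))

end Base

end CfsgLib.J4SylEleven
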