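import Cfsg.Agent.J4SylEleven.Abelian.Fusion
import Cfsg.Agent.J4Large.Main

/-!
An abelian Sylow 11-subgroup gives the data used by the character argument.
-/

set_option autoImplicit false
set_option linter.style.haveILetI false
set_option linter.unusedSectionVars false

namespace CfsgLib.J4SylEleven

open Cfsg CfsgLib.J4Local Subgroup
open CfsgLib.J4Seven (mem_norm_zpowers orderOf_conj7)

variable {G : Type*} [Group G] [Finite G] {z : G} {P : Subgroup G} {x : G} {U : Subgroup G}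
  (B : Base z P x U) (hU : ∀ u ∈ U, ∀ v ∈ U, u * v = v * u)

namespace Base

include B

theorem x_conj_ne {a : G} (hax : a * x * a⁻¹ = x⁻¹) : a * x * a⁻¹ ≠ x := by
  rw [hax]
  intro e
  exact B.x_ne_one (B.eq_one_of_sq B.mem (by nth_rw 1 [← e]; exact inv_mul_cancel x))

include hU

theorem conj_sq {a u : G} (ha : a * a = 1) : a * (a * u * a⁻¹) * a⁻¹ = u := by
  have hi : a⁻¹ = a := inv_eq_of_mul_eq_one_right ha
  rw [hi, show a * (a * u * a) * a = (a * a) * u * (a * a) by group, ha, one_mul, mul_one]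

/-- An element fixing `x` and a nontrivial inverted element lies in `U`. -/
theorem mem_of_fix {g v : G} (hv : v ∈ invPart' z U) (hx : g * x = x * g) (hgv : g * v = v * g) : g ∈ U := by
  obtain ⟨u, hu, h, hh, rfl⟩ := B.cent_eq (mem_centralizer_singleton_iff.2 hx)
  refine mul_mem hu ((zpowers_le.2 B.mem) ((B.fix_cent hv).le ⟨hh, mem_centralizer_singleton_iff.2 ?_⟩))
  refine mul_left_cancel (a := u) ?_
  rw [← mul_assoc, hgv, ← mul_assoc, hU v hv.1.1 u hu, mul_assoc]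

/-- For an involution normalising `U`, every element of `U` splits into an inverted and a fixed part. -/
theorem split_invol {a u : G} (ha : a * a = 1) (hu : u ∈ U) (hau : a * u * a⁻¹ ∈ U) :
    ∃ i ∈ U, ∃ f ∈ U, a * i * a⁻¹ = i⁻¹ ∧ a * f = f * a ∧ u = i * f := by
  set b := a * u * a⁻¹ with hb
  have hab : a * b * a⁻¹ = u := B.conj_sq hU ha
  have hc : Commute u b := hU _ hu _ hau
  have h11u : u ^ 11 = 1 := B.exp u hu
  have h11b : b ^ 11 = 1 := B.exp b hau
  refine ⟨(u * b⁻¹) ^ 6, pow_mem (mul_mem hu (inv_mem hau)) 6, (u * b) ^ 6, pow_mem (mul_mem hu hau) 6,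
    ?_, ?_, ?_⟩
  · rw [← conj_pow, ← inv_pow]
    congr 1
    calc a * (u * b⁻¹) * a⁻¹ = (a * u * a⁻¹) * (a * b * a⁻¹)⁻¹ := by group
      _ = (u * b⁻¹)⁻¹ := by rw [hab, ← hb]; group
  · have h : a * (u * b) * a⁻¹ = u * b := by
      rw [show a * (u * b) * a⁻¹ = (a * u * a⁻¹) * (a * b * a⁻¹) by group, hab, ← hb, hc.eq]
    exact (show Commute a (u * b) from mul_inv_eq_iff_eq_mul.1 h).pow_right 6
  · rw [hc.inv_right.mul_pow, hc.mul_pow,
      show u ^ 6 * b⁻¹ ^ 6 * (u ^ 6 * b ^ 6) = u ^ 6 * (b⁻¹ ^ 6 * u ^ 6) * b ^ 6 by group,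
      ((hc.inv_right).pow_pow 6 6).eq.symm, inv_pow,
      show u ^ 6 * (u ^ 6 * (b ^ 6)⁻¹) * b ^ 6 = u ^ 6 * u ^ 6 by group, ← pow_add,
      show 6 + 6 = 11 + 1 by norm_num, pow_succ, h11u, one_mul]

variable [IsSimpleGroup G] (hG : ¬ IsMulCommutative G)

include hG

/-- No involution of the class of `z` centralises an element of `U` outside `⟨x⟩`. -/
theorem not_z {a v : G} (hv : v ∈ invPart' z U) (hav : a * v = v * a) : ¬ IsConj z a := fun h => by
  obtain ⟨m, hm⟩ := conj_of_invol B.type B.memC.1 B.ord (B.orderOf_mem hv.1.1 hv.2) h hav.symm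
  exact hv.2 (B.mem_invPart_of_fix_zero hv.1 (B.mem_of_conj hU hv.1.1 hm))

/-- No involution centralises all inverted elements. -/
theorem not_all {a : G} (ha : orderOf a = 2) : ∃ v ∈ invPart' z U, a * v ≠ v * a := by
  by_contra hcon
  push Not at hcon
  have hle : ∀ v ∈ invPart z U, v ∈ centralizer ({a} : Set G) := by
    intro v hv
    rw [mem_centralizer_singleton_iff]
    by_cases h1 : v = 1
    · rw [h1, one_mul, mul_one]
    · exact (hcon v ⟨hv, h1⟩).symm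
  let I : Subgroup G :=
    { carrier := invPart z U
      one_mem' := ⟨one_mem U, by group⟩
      mul_mem' := fun h1 h2 => B.invPart_mul hU h1 h2
      inv_mem' := fun {v} hv => ⟨inv_mem hv.1, by rw [← conj_inv, hv.2]⟩ }
  have hI : Nat.card I = 121 := by
    rw [← B.ncard_invPart, ← Nat.card_coe_set_eq]; rfl
  have h121 := Subgroup.card_dvd_of_le (show I ≤ centralizer ({a} : Set G) from hle)
  rw [hI] at h121
  by_cases hz : IsConj z a
  · obtain ⟨c, hc⟩ := isConj_iff.1 hz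
    rw [← hc, CfsgLib.J4Large.card_cent_conj, show Nat.card (centralizer ({z} : Set G)) = Nat.card (cH z) from rfl,
      J4Seven.card_H B.type] at h121
    norm_num at h121
  · rw [card_centralizer_second hG ⟨P, B.type⟩ ha hz] at h121
    norm_num at h121

/-- An involution inverting `x` and `v` in `U`. -/
theorem exists_g0 {v : G} (hv : v ∈ invPart' z U) : ∃ g0 : G, orderOf g0 = 2 ∧ g0 * x * g0⁻¹ = x⁻¹ ∧
    g0 * v * g0⁻¹ = v⁻¹ ∧ ∃ w ∈ invPart' z U, g0 * w = w * g0 := by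
  obtain ⟨s, hs, hso, hsx, hsv⟩ := B.exists_refl hv
  have hss : s * s = 1 := by rw [← pow_two, ← hso, pow_orderOf_eq_one]
  have hsN : s ∈ normalizer ((zpowers x : Subgroup G) : Set G) :=
    B.norm_of_conj (by rw [hsx]; exact inv_mem (mem_zpowers x))
  have hzs : Commute z s := (mem_cH.1 hs).symm
  have hinv : (s * z) * x * (s * z)⁻¹ = x⁻¹ := by
    rw [show (s * z) * x * (s * z)⁻¹ = s * (z * x * z⁻¹) * s⁻¹ by group, B.z_fix (mem_zpowers x), hsx]
  refine ⟨s * z, ?_, hinv, ?_, ?_⟩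
  · refine orderOf_eq_prime ?_ fun e => ?_
    · rw [pow_two, show s * z * (s * z) = s * (z * s) * z by group, hzs.eq,
        show s * (s * z) * z = (s * s) * (z * z) by group, hss, B.zz, mul_one]
    · rw [e] at hinv
      refine B.x_conj_ne hinv ?_
      group
  · rw [show (s * z) * v * (s * z)⁻¹ = s * (z * v * z⁻¹) * s⁻¹ by group, hv.1.2, ← conj_inv, hsv,
      mul_inv_cancel_right]
  · obtain ⟨w, hw, hws⟩ := B.not_all hU hG hso
    have hb := B.conj_invPart hU hsN hw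
    obtain ⟨i, hi, f, hf, hsi, hsf, hwe⟩ := B.split_invol hU hss hw.1.1 hb.1.1
    set b := s * w * s⁻¹ with hbdef
    have hk : w * b⁻¹ ∈ invPart z U :=
      B.invPart_mul hU hw.1 ⟨inv_mem hb.1.1, by rw [← conj_inv, hb.1.2]⟩
    have hsk : s * (w * b⁻¹) * s⁻¹ = (w * b⁻¹)⁻¹ := by
      rw [show s * (w * b⁻¹) * s⁻¹ = (s * w * s⁻¹) * (s * b * s⁻¹)⁻¹ by group, B.conj_sq hU hss, ← hbdef]
      group
    refine ⟨w * b⁻¹, ⟨hk, fun e => hws (mul_inv_eq_iff_eq_mul.1 (mul_inv_eq_one.1 e).symm)⟩, ?_⟩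
    refine mul_inv_eq_iff_eq_mul.1 ?_
    rw [show s * z * (w * b⁻¹) * (s * z)⁻¹ = s * (z * (w * b⁻¹) * z⁻¹) * s⁻¹ by group, hk.2, ← conj_inv, hsk,
      inv_inv]

/-- The elements of `U` inverted by an involution inverting `x` form a subgroup of order 121. -/
theorem ncard_inverted {a : G} (_ha : a * a = 1) (_haN : a ∈ normalizer ((zpowers x : Subgroup G) : Set G))
    {v : G} (hv : v ∈ invPart' z U) (hax : a * x * a⁻¹ = x⁻¹) (hav : a * v * a⁻¹ = v⁻¹)
    {w : G} (hw : w ∈ invPart' z U) (haw : a * w = w * a) :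
    {u | u ∈ U ∧ a * u * a⁻¹ = u⁻¹}.ncard = 121 := by
  let T : Subgroup G :=
    { carrier := {u | u ∈ U ∧ a * u * a⁻¹ = u⁻¹}
      one_mem' := ⟨one_mem U, by group⟩
      mul_mem' := fun {p q} hp hq => ⟨mul_mem hp.1 hq.1, by
        rw [show a * (p * q) * a⁻¹ = (a * p * a⁻¹) * (a * q * a⁻¹) by group, hp.2, hq.2, ← mul_inv_rev,
          hU _ hp.1 _ hq.1]⟩
      inv_mem' := fun {p} hp => ⟨inv_mem hp.1, by rw [← conj_inv, hp.2]⟩ }
  show (T : Set G).ncard = 121
  rw [← Nat.card_coe_set_eq, SetLike.coe_sort_coe]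
  have hTU : T ≤ U := fun u hu => hu.1
  obtain ⟨i, hi, hiT⟩ := (Nat.dvd_prime_pow (by norm_num : Nat.Prime 11)).1
    (show Nat.card T ∣ 11 ^ 3 by rw [show 11 ^ 3 = 1331 by norm_num, ← B.cardU]; exact Subgroup.card_dvd_of_le hTU)
  have hlt : zpowers x < T := by
    refine lt_of_le_of_ne (zpowers_le.2 ⟨B.mem, hax⟩) fun e => hv.2 (B.mem_invPart_of_fix_zero hv.1 ?_)
    rw [e]
    exact ⟨hv.1.1, hav⟩
  have h11 := CfsgLib.Solvable.card_lt_of_lt hlt
  rw [Nat.card_zpowers, B.ord, hiT] at h11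
  have hne : i ≠ 3 := by
    intro e
    rw [e] at hiT
    have hTU' : T = U := eq_of_le_of_card_ge hTU (by rw [hiT, B.cardU]; norm_num)
    have hwT : w ∈ T := hTU' ▸ hw.1.1
    have h2 := hwT.2
    rw [haw, mul_inv_cancel_right] at h2
    exact hw.2 (B.eq_one_of_sq hw.1.1 (eq_inv_iff_mul_eq_one.1 h2))
  have hi2 : i = 2 := by
    by_contra h
    have := Nat.pow_le_pow_right (show 1 ≤ 11 by norm_num) (show i ≤ 1 by omega)
    omega
  rw [hiT, hi2]
  norm_num

/-- The involutions of the second class inverting `x` and `v`. -/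
theorem ncard_both {t : G} (ht : orderOf t = 2) (htz : ¬ IsConj z t) {v : G} (hv : v ∈ invPart' z U) :
    {a | IsConj t a ∧ a * x * a⁻¹ = x⁻¹ ∧ a * v * a⁻¹ = v⁻¹}.ncard = 121 := by
  obtain ⟨g0, hg0, hgx, hgv, w, hw, hgw⟩ := B.exists_g0 hU hG hv
  have hg2 : g0 * g0 = 1 := by rw [← pow_two, ← hg0, pow_orderOf_eq_one]
  have hgi : g0⁻¹ = g0 := inv_eq_of_mul_eq_one_right hg2
  have hgN : g0 ∈ normalizer ((zpowers x : Subgroup G) : Set G) :=
    B.norm_of_conj (by rw [hgx]; exact inv_mem (mem_zpowers x))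
  rw [← B.ncard_inverted hU hG hg2 hgN hv hgx hgv hw hgw]
  have htg : IsConj t g0 := second_conj hG ⟨P, B.type⟩ ht hg0 htz (B.not_z hU hG hw hgw)
  have hv2 : ∀ k : G, k ∈ U → ∀ q ∈ U, k * q * k⁻¹ = q := fun k hk q hq => by
    rw [hU k hk q hq, mul_inv_cancel_right]
  refine le_antisymm (Set.ncard_le_ncard_of_injOn (fun a => a * g0) (fun a ha => ?_)
    (fun a _ b _ e => mul_right_cancel e) (Set.toFinite _))
    (Set.ncard_le_ncard_of_injOn (fun u => u * g0) (fun u hu => ?_)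
      (fun a _ b _ e => mul_right_cancel e) (Set.toFinite _))
  · obtain ⟨hta, hax, hav⟩ := ha
    obtain ⟨c, hc⟩ := isConj_iff.1 hta
    have ha2 : a * a = 1 := by
      rw [← hc, show c * t * c⁻¹ * (c * t * c⁻¹) = c * (t * t) * c⁻¹ by group, ← pow_two t, ← ht, pow_orderOf_eq_one,
        mul_one, mul_inv_cancel]
    have hk : a * g0 ∈ U := by
      refine B.mem_of_fix hU hv ?_ ?_ <;> refine mul_inv_eq_iff_eq_mul.1 ?_
      · rw [show a * g0 * x * (a * g0)⁻¹ = a * (g0 * x * g0⁻¹) * a⁻¹ by group, hgx, ← conj_inv, hax, inv_inv]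
      · rw [show a * g0 * v * (a * g0)⁻¹ = a * (g0 * v * g0⁻¹) * a⁻¹ by group, hgv, ← conj_inv, hav, inv_inv]
    refine ⟨hk, ?_⟩
    rw [hgi, mul_inv_rev, hgi, inv_eq_of_mul_eq_one_right ha2,
      show g0 * (a * g0) * g0 = g0 * a * (g0 * g0) by group, hg2, mul_one]
  · obtain ⟨huU, hui⟩ := hu
    refine ⟨htg.trans (isConj_iff.2 ⟨u ^ 6, ?_⟩), ?_, ?_⟩
    · have hc6 : g0 * (u ^ 6)⁻¹ = u ^ 6 * g0 := by
        refine mul_inv_eq_iff_eq_mul.1 ?_
        rw [← conj_inv, ← conj_pow, hui, inv_pow, inv_inv]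
      rw [mul_assoc, hc6, ← mul_assoc, ← pow_add, show 6 + 6 = 11 + 1 by norm_num, pow_succ, B.exp u huU, one_mul]
    · rw [show u * g0 * x * (u * g0)⁻¹ = u * (g0 * x * g0⁻¹) * u⁻¹ by group, hgx, hv2 u huU _ (inv_mem B.mem)]
    · rw [show u * g0 * v * (u * g0)⁻¹ = u * (g0 * v * g0⁻¹) * u⁻¹ by group, hgv, hv2 u huU _ (inv_mem hv.1.1)]

/-- An involution of the second class inverting `x` inverts exactly ten nontrivial elements of `invPart`. -/
theorem ncard_line {t a : G} (ht : orderOf t = 2) (hta : IsConj t a) (hax : a * x * a⁻¹ = x⁻¹) :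
    {v | v ∈ invPart' z U ∧ a * v * a⁻¹ = v⁻¹}.ncard = 10 := by
  obtain ⟨c, hc⟩ := isConj_iff.1 hta
  have hao : orderOf a = 2 := by rw [← hc, orderOf_conj7, ht]
  have ha2 : a * a = 1 := by rw [← pow_two, ← hao, pow_orderOf_eq_one]
  have haN : a ∈ normalizer ((zpowers x : Subgroup G) : Set G) :=
    B.norm_of_conj (by rw [hax]; exact inv_mem (mem_zpowers x))
  obtain ⟨w, hw, haw⟩ := B.not_all hU hG hao
  -- an inverted element
  set b := a * w * a⁻¹ with hb
  have hbI := B.conj_invPart hU haN hw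
  have hk : w * b⁻¹ ∈ invPart z U :=
    B.invPart_mul hU hw.1 ⟨inv_mem hbI.1.1, by rw [← conj_inv, hbI.1.2]⟩
  set k := w * b⁻¹ with hkdef
  have hk1 : k ≠ 1 := fun e => haw (mul_inv_eq_iff_eq_mul.1 (mul_inv_eq_one.1 e).symm)
  have hak : a * k * a⁻¹ = k⁻¹ := by
    rw [hkdef, show a * (w * b⁻¹) * a⁻¹ = (a * w * a⁻¹) * (a * b * a⁻¹)⁻¹ by group, B.conj_sq hU ha2, ← hb]
    group
  -- the inverted elements form a proper subgroup
  let T : Subgroup G :=
    { carrier := {v | v ∈ invPart z U ∧ a * v * a⁻¹ = v⁻¹}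
      one_mem' := ⟨⟨one_mem U, by group⟩, by group⟩
      mul_mem' := fun {p q} hp hq => ⟨B.invPart_mul hU hp.1 hq.1, by
        rw [show a * (p * q) * a⁻¹ = (a * p * a⁻¹) * (a * q * a⁻¹) by group, hp.2, hq.2, ← mul_inv_rev,
          hU _ hp.1.1 _ hq.1.1]⟩
      inv_mem' := fun {p} hp => ⟨⟨inv_mem hp.1.1, by rw [← conj_inv, hp.1.2]⟩, by rw [← conj_inv, hp.2]⟩ }
  have hkT : k ∈ T := ⟨hk, hak⟩
  have hTU : T ≤ U := fun u hu => hu.1.1
  have hTc : (T : Set G).ncard = Nat.card T := by rw [← Nat.card_coe_set_eq, SetLike.coe_sort_coe]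
  obtain ⟨i, -, hiT⟩ := (Nat.dvd_prime_pow (by norm_num : Nat.Prime 11)).1
    (show Nat.card T ∣ 11 ^ 3 by rw [show 11 ^ 3 = 1331 by norm_num, ← B.cardU]; exact Subgroup.card_dvd_of_le hTU)
  have hsub : (T : Set G) ⊆ invPart z U := fun u hu => hu.1
  have hlt : Nat.card T < 121 := by
    rw [← B.ncard_invPart, ← hTc]
    refine Set.ncard_lt_ncard (hsub.ssubset_of_ne fun e => ?_) (Set.toFinite _)
    obtain ⟨g0, hg0, hgx, hgk, w', hw', hgw⟩ := B.exists_g0 hU hG (v := k) ⟨hk, hk1⟩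
    -- `a` and `g0` differ by an element of `U`
    have hu : a * g0 ∈ U := by
      refine B.mem_of_fix hU (v := k) ⟨hk, hk1⟩ ?_ ?_ <;> refine mul_inv_eq_iff_eq_mul.1 ?_
      · rw [show a * g0 * x * (a * g0)⁻¹ = a * (g0 * x * g0⁻¹) * a⁻¹ by group, hgx, ← conj_inv, hax, inv_inv]
      · rw [show a * g0 * k * (a * g0)⁻¹ = a * (g0 * k * g0⁻¹) * a⁻¹ by group, hgk, ← conj_inv, hak, inv_inv]
    have h1 : a * g0 * w' * (a * g0)⁻¹ = w' := by rw [hU _ hu _ hw'.1.1, mul_inv_cancel_right]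
    have hwT : w' ∈ T := e.ge hw'.1
    rw [show a * g0 * w' * (a * g0)⁻¹ = a * (g0 * w' * g0⁻¹) * a⁻¹ by group, hgw, mul_inv_cancel_right, hwT.2] at h1
    exact hw'.2 (B.eq_one_of_sq hw'.1.1 (inv_eq_iff_mul_eq_one.1 h1))
  have hTi : Nat.card T = 11 := by
    rcases Nat.lt_or_ge i 2 with h | h
    · interval_cases i
      · exfalso
        rw [pow_zero] at hiT
        have hbot : T = ⊥ := Subgroup.eq_bot_of_card_eq _ hiT
        rw [hbot, mem_bot] at hkT
        exact hk1 hkT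
      · rw [hiT, pow_one]
    · have := Nat.pow_le_pow_right (show 1 ≤ 11 by norm_num) h
      omega
  have e : {v | v ∈ invPart' z U ∧ a * v * a⁻¹ = v⁻¹} = (T : Set G) \ {1} := by
    ext v
    exact ⟨fun ⟨⟨h1, h2⟩, h3⟩ => ⟨⟨h1, h3⟩, h2⟩, fun ⟨⟨h1, h3⟩, h2⟩ => ⟨⟨h1, h2⟩, h3⟩⟩
  rw [e, Set.ncard_sdiff (by simp [one_mem T]), Set.ncard_singleton, hTc, hTi]

/-- The involutions of the second class inverting `x`. -/
theorem ncard_inv_x {t : G} (ht : orderOf t = 2) (htz : ¬ IsConj z t) :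
    {a | IsConj t a ∧ a * x * a⁻¹ = x⁻¹}.ncard = 1452 := by
  classical
  haveI : Fintype G := Fintype.ofFinite G
  set A : Finset G := Finset.univ.filter fun a => IsConj t a ∧ a * x * a⁻¹ = x⁻¹ with hA
  set V : Finset G := Finset.univ.filter fun v => v ∈ invPart' z U with hV
  have hAc : {a | IsConj t a ∧ a * x * a⁻¹ = x⁻¹}.ncard = A.card := by
    rw [← Set.ncard_coe_finset]; simp [hA]
  have hVc : V.card = 120 := by
    rw [← B.ncard_invPart', ← Set.ncard_coe_finset]; simp [hV]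
  have h := Finset.sum_card_bipartiteAbove_eq_sum_card_bipartiteBelow (s := A) (t := V)
    (fun a v => a * v * a⁻¹ = v⁻¹)
  have h121 : ∀ v ∈ V, (Finset.bipartiteBelow (fun a v => a * v * a⁻¹ = v⁻¹) A v).card = 121 := by
    intro v hv
    obtain ⟨-, hv'⟩ := Finset.mem_filter.1 hv
    rw [← B.ncard_both hU hG ht htz hv', ← Set.ncard_coe_finset]
    congr 1
    ext a
    simp [Finset.bipartiteBelow, hA, and_assoc]
  have h10 : ∀ a ∈ A, (Finset.bipartiteAbove (fun a v => a * v * a⁻¹ = v⁻¹) V a).card = 10 := by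
    intro a ha
    obtain ⟨-, hta, hax⟩ := Finset.mem_filter.1 ha
    rw [← B.ncard_line hU hG ht hta hax, ← Set.ncard_coe_finset]
    congr 1
    ext v
    simp [Finset.bipartiteAbove, hV]
  rw [Finset.sum_congr rfl h10, Finset.sum_congr rfl h121, Finset.sum_const, Finset.sum_const, hVc,
    smul_eq_mul, smul_eq_mul] at h
  omega

/-- An involution inverting an element of `U` outside `⟨x⟩` inverts `x` and its component. -/
theorem inverts_parts {t a c v : G} (ht : orderOf t = 2) (htz : ¬ IsConj z t) (hta : IsConj t a)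
    (hc : c ∈ zpowers x) (hv : v ∈ invPart' z U) (ha : a * (c * v) * a⁻¹ = (c * v)⁻¹) :
    a * x * a⁻¹ = x⁻¹ ∧ a * v * a⁻¹ = v⁻¹ := by
  have hne : c * v ≠ 1 := fun e => hv.2
    (B.split_unique hc (one_mem _) hv.1 ⟨one_mem U, by group⟩ (by rw [e, mul_one])).2
  have huU : c * v ∈ U := mul_mem ((zpowers_le.2 B.mem) hc) hv.1.1
  have haN := B.ti_of_abelian hU hG huU hne (g := a) (by rw [ha]; exact inv_mem huU)
  obtain ⟨h1, h2⟩ := B.split_unique ((Subgroup.mem_normalizer_iff.1 haN c).1 hc) (inv_mem hc)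
    (B.conj_invPart hU haN hv).1 ⟨inv_mem hv.1.1, by rw [← conj_inv, hv.1.2]⟩
    (by rw [show a * c * a⁻¹ * (a * v * a⁻¹) = a * (c * v) * a⁻¹ by group, ha, mul_inv_rev,
      hU _ (inv_mem hv.1.1) _ (inv_mem ((zpowers_le.2 B.mem) hc))])
  refine ⟨?_, h2⟩
  obtain ⟨d, hd, h, hh, hdh⟩ := (normalizer_x B.inputs B.memC B.ord).2 a haN
  obtain ⟨s, hs, hso, hsx, hsv⟩ := B.exists_refl hv
  obtain ⟨g0, hg0, hgx, hgv, w, hw, hgw⟩ := B.exists_g0 hU hG hv
  have hg2 : g0 * g0 = 1 := by rw [← pow_two, ← hg0, pow_orderOf_eq_one]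
  -- the action on `x`: the stabiliser of `v` acts by a sign
  set b := a * z with hb
  have hbN : b ∈ normalizer ((zpowers x : Subgroup G) : Set G) :=
    mul_mem haN (B.norm_of_conj (by rw [B.z_fix (mem_zpowers x)]; exact mem_zpowers x))
  have hbv : b * v = v * b := by
    refine mul_inv_eq_iff_eq_mul.1 ?_
    rw [hb, show a * z * v * (a * z)⁻¹ = a * (z * v * z⁻¹) * a⁻¹ by group, hv.1.2, ← conj_inv, h2, inv_inv]
  obtain ⟨c', hc', h', hh', hbe⟩ := (normalizer_x B.inputs B.memC B.ord).2 b hbN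
  obtain ⟨u', hu', d', hd', hc'e⟩ := B.cent_eq hc'
  have hd'N : d' ∈ normalizer ((zpowers x : Subgroup G) : Set G) :=
    B.norm_of_conj (by rw [mem_centralizer_singleton_iff.1 hd'.2, mul_inv_cancel_right]; exact mem_zpowers x)
  set r := d' * h' with hr
  have hrH : r ∈ cH z ⊓ normalizer ((zpowers x : Subgroup G) : Set G) := mul_mem ⟨hd'.1, hd'N⟩ hh'
  have hbe' : b = u' * r := by rw [hbe, hc'e, hr, mul_assoc]
  have hrv : r * v = v * r := by
    refine mul_left_cancel (a := u') ?_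
    rw [← mul_assoc, ← hbe', hbv, hbe', ← mul_assoc, ← hU u' hu' v hv.1.1, mul_assoc]
  -- the stabiliser is generated by `⟨x⟩` and `s`
  set S := cH z ⊓ normalizer ((zpowers x : Subgroup G) : Set G) ⊓ centralizer ({v} : Set G) with hS
  have hxS : zpowers x ≤ S := by
    rw [← B.fix_cent hv]
    exact fun g hg => ⟨⟨hg.1.1, B.norm_of_conj
      (by rw [mem_centralizer_singleton_iff.1 hg.1.2, mul_inv_cancel_right]; exact mem_zpowers x)⟩, hg.2⟩
  have hidx : ((zpowers x).subgroupOf S).index = 2 := by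
    have h := ((zpowers x).subgroupOf S).card_mul_index
    rw [Nat.card_congr (Subgroup.subgroupOfEquivOfLe hxS).toEquiv, Nat.card_zpowers, B.ord,
      (B.stab_card_trans hv).1] at h
    omega
  have hsS : s ∈ S :=
    ⟨⟨hs, B.norm_of_conj (by rw [hsx]; exact inv_mem (mem_zpowers x))⟩, mem_centralizer_singleton_iff.2 hsv⟩
  have hrS : r ∈ S := ⟨hrH, mem_centralizer_singleton_iff.2 hrv⟩
  have hsx' : s ∉ zpowers x := fun h => B.x_conj_ne hsx
    (by rw [hU s ((zpowers_le.2 B.mem) h) x B.mem, mul_inv_cancel_right])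
  have hax : a * x * a⁻¹ = b * x * b⁻¹ := by
    rw [hb, show a * z * x * (a * z)⁻¹ = a * (z * x * z⁻¹) * a⁻¹ by group, B.z_fix (mem_zpowers x)]
  have hbr : b * x * b⁻¹ = r * x * r⁻¹ := by
    rw [hbe', show u' * r * x * (u' * r)⁻¹ = u' * (r * x * r⁻¹) * u'⁻¹ by group]
    have : r * x * r⁻¹ ∈ U := (zpowers_le.2 B.mem) ((Subgroup.mem_normalizer_iff.1 hrH.2 x).1 (mem_zpowers x))
    rw [hU u' hu' _ this, mul_inv_cancel_right]
  rw [hax, hbr]
  by_cases hrx : r ∈ zpowers x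
  · -- then `a` would be conjugate to `z`
    exfalso
    have hax' : a * x = x * a := mul_inv_eq_iff_eq_mul.1 (by
      rw [hax, hbr, hU r ((zpowers_le.2 B.mem) hrx) x B.mem, mul_inv_cancel_right])
    have hk : a * z ∈ U := by rw [← hb, hbe']; exact mul_mem hu' ((zpowers_le.2 B.mem) hrx)
    obtain ⟨q, hq⟩ := isConj_iff.1 hta
    have ha2 : a * a = 1 := by
      rw [← hq, show q * t * q⁻¹ * (q * t * q⁻¹) = q * (t * t) * q⁻¹ by group, ← pow_two t, ← ht, pow_orderOf_eq_one,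
        mul_one, mul_inv_cancel]
    set k := a * z with hkdef
    have hzk : z * k * z⁻¹ = k⁻¹ := by
      rw [hkdef, mul_inv_rev, inv_eq_of_mul_eq_one_right B.zz, inv_eq_of_mul_eq_one_right ha2,
        show z * (a * z) * z = z * a * (z * z) by group, B.zz, mul_one]
    have hza : IsConj z a := by
      refine isConj_iff.2 ⟨k ^ 6, ?_⟩
      have hc6 : z * (k ^ 6)⁻¹ = k ^ 6 * z := by
        refine mul_inv_eq_iff_eq_mul.1 ?_
        rw [← conj_inv, ← conj_pow, hzk, inv_pow, inv_inv]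
      rw [mul_assoc, hc6, ← mul_assoc, ← pow_add, show 6 + 6 = 11 + 1 by norm_num, pow_succ, B.exp k hk, one_mul,
        hkdef, mul_assoc, B.zz, mul_one]
    exact htz (hza.trans hta.symm)
  · have hm : s⁻¹ * r ∈ zpowers x := by
      have := (Subgroup.mul_mem_iff_of_index_two hidx (a := (⟨s, hsS⟩ : S)⁻¹) (b := ⟨r, hrS⟩)).2
        (iff_of_false (fun h => hsx' (by simpa using inv_mem (mem_subgroupOf.1 h)))
          fun h => hrx (mem_subgroupOf.1 h))
      simpa using mem_subgroupOf.1 this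
    rw [show r * x * r⁻¹ = s * ((s⁻¹ * r) * x * (s⁻¹ * r)⁻¹) * s⁻¹ by group,
      hU _ ((zpowers_le.2 B.mem) hm) x B.mem, mul_inv_cancel_right, hsx]

theorem card_pairs {t u : G} (ht : orderOf t = 2) (hu : u ∈ U) :
    Nat.card {p : G × G // IsConj t p.1 ∧ IsConj t p.2 ∧ p.1 * p.2 = u} =
      {a | IsConj t a ∧ a * u * a⁻¹ = u⁻¹}.ncard := by
  have htt : t * t = 1 := by rw [← pow_two, ← ht, pow_orderOf_eq_one]
  have h2 : ∀ a, IsConj t a → a * a = 1 := fun a h => by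
    obtain ⟨c, rfl⟩ := isConj_iff.1 h
    rw [show c * t * c⁻¹ * (c * t * c⁻¹) = c * (t * t) * c⁻¹ by group, htt, mul_one, mul_inv_cancel]
  rw [← Nat.card_coe_set_eq]
  refine Nat.card_congr
    { toFun := fun p => ⟨p.1.1, p.2.1, ?_⟩
      invFun := fun a => ⟨(a.1, a.1 * u), a.2.1, ?_, ?_⟩
      left_inv := fun p => Subtype.ext (Prod.ext rfl ?_)
      right_inv := fun a => Subtype.ext rfl }
  · obtain ⟨⟨a, b⟩, ha, hb, hab⟩ := p
    dsimp only at hab ⊢
    rw [← hab, mul_inv_rev, inv_eq_of_mul_eq_one_right (h2 a ha), inv_eq_of_mul_eq_one_right (h2 b hb),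
      ← mul_assoc a a b, h2 a ha, one_mul]
  · obtain ⟨a, ha, hau⟩ := a
    refine ha.trans (isConj_iff.2 ⟨(u ^ 6)⁻¹, ?_⟩)
    rw [inv_inv]
    show (u ^ 6)⁻¹ * a * u ^ 6 = a * u
    have hc : a * u ^ 6 * a⁻¹ = (u ^ 6)⁻¹ := by rw [← conj_pow, hau, inv_pow]
    rw [← hc, show a * u ^ 6 * a⁻¹ * a * u ^ 6 = a * (u ^ 6 * u ^ 6) by group, ← pow_add,
      show 6 + 6 = 11 + 1 by norm_num, pow_succ, B.exp u hu, one_mul]
  · show a.1 * (a.1 * u) = u
    rw [← mul_assoc, h2 a.1 a.2.1, one_mul]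
  · calc p.1.1 * u = p.1.1 * (p.1.1 * p.1.2) := by rw [p.2.2.2]
      _ = p.1.2 := by rw [← mul_assoc, h2 _ p.2.1, one_mul]

/-- The data of the abelian case. -/
theorem abel : ∃ t, Abel z P x U t := by
  obtain ⟨t, ht, htz⟩ := exists_second hG ⟨P, B.type⟩
  refine ⟨t, B, order_eq B.inputs, ht, card_centralizer_second hG ⟨P, B.type⟩ ht htz, hU,
    fun u hu h1 g hg => B.ti_of_abelian hU hG hu h1 hg, fun v hv => ?_, fun u hu h1 => ?_, fun u hu hux => ?_,
    CfsgLib.J4Large.main B.inputs⟩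
  · obtain ⟨s, hs, hso, hsx, hsv⟩ := B.exists_refl hv
    have hvx : v ∉ zpowers x := fun h => hv.2 (B.mem_invPart_of_fix_zero hv.1 h)
    rcases (B.cent_other hU hG hv.1.1 hvx).2 with h | h
    · exfalso
      have h2 := Subgroup.orderOf_dvd_natCard (centralizer ({v} : Set G)) (mem_centralizer_singleton_iff.2 hsv)
      rw [hso, h] at h2
      norm_num at h2
    · exact h
  · rw [B.card_pairs hU hG ht ((zpowers_le.2 B.mem) hu), ← B.ncard_inv_x hU hG ht htz]
    congr 1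
    ext a
    simp only [Set.mem_ofPred_eq]
    refine and_congr_right fun _ => ⟨fun h => ?_, fun h => ?_⟩
    · obtain ⟨i, hi⟩ := mem_zpowers_iff.1 ((B.zpowers_of_mem hu h1).ge (mem_zpowers x))
      have e : a * x * a⁻¹ = (a * u * a⁻¹) ^ i := by rw [conj_zpow, hi]
      rw [e, h, inv_zpow, hi]
    · obtain ⟨i, rfl⟩ := mem_zpowers_iff.1 hu
      rw [← conj_zpow, h, inv_zpow]
  · obtain ⟨c, hc, v, hv, hzv, rfl⟩ := B.split u hu
    have hv' : v ∈ invPart' z U := ⟨⟨hv, hzv⟩, fun e => hux (by rw [e, mul_one]; exact hc)⟩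
    rw [B.card_pairs hU hG ht hu, ← B.ncard_both hU hG ht htz hv']
    congr 1
    ext a
    simp only [Set.mem_ofPred_eq]
    refine and_congr_right fun hta => ⟨fun h => B.inverts_parts hU hG ht htz hta hc hv' h, fun ⟨hax, hav⟩ => ?_⟩
    obtain ⟨i, rfl⟩ := mem_zpowers_iff.1 hc
    rw [show a * (x ^ i * v) * a⁻¹ = (a * x ^ i * a⁻¹) * (a * v * a⁻¹) by group, ← conj_zpow, hax, hav, inv_zpow,
      mul_inv_rev, hU _ (inv_mem hv) _ (inv_mem ((zpowers_le.2 B.mem) (zpow_mem (mem_zpowers x) i)))]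

end Base

end CfsgLib.J4SylEleven
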